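import Cfsg.Agent.Lib.Chev.DiagOrder
import Cfsg.Agent.Lib.Chev.WeylCount

/-!
The sign elements of the diagonal subgroup, indexed by bit masks, and the action of the Weyl group
on the masks.
-/

set_option autoImplicit false

namespace CfsgLib.Chev

open Cfsg.Lie Matrix

namespace Tab

variable (T : Tab)

/-- The parity of the sign element of the mask `M` at the root `r`, as an element of `ℤ/2`. -/
def valZ (M r : ℕ) : ZMod 2 :=
  ∑ j ∈ Finset.range T.l, if M.testBit j then (T.car j r : ZMod 2) else 0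

/-- The same parity, computed. -/
noncomputable def valN (M r : ℕ) : ℕ :=
  sumBelow T.l (fun j => cond (M.testBit j) (T.carF j r + 1) 0) % 2

/-- The action of a simple reflection on the masks. -/
noncomputable def mvMask (i M : ℕ) : ℕ :=
  cond (Nat.beq (T.valN M (T.simple i)) 1) (M ^^^ 2 ^ i) M

/-- The action of a word on the masks. -/
noncomputable def actMask (w : List ℕ) (M : ℕ) : ℕ := w.foldr T.mvMask M

/-- A nonempty set of nodes has an odd pairing with some simple root. -/
noncomputable def chkInj : Bool :=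
  allBelow (2 ^ T.l) fun M => Nat.beq M 0 ||
    !(allBelow T.l fun j => Nat.beq (T.valN M (T.simple j)) 0)

lemma valN_cast (M r : ℕ) : (T.valN M r : ZMod 2) = T.valZ M r := by
  rw [valN, ZMod.natCast_mod, sumBelow_eq, Nat.cast_sum, valZ]
  refine Finset.sum_congr rfl fun j _ => ?_
  cases hb : M.testBit j
  · simp
  · rw [cond_true, if_pos rfl, T.car_eq']
    push_cast
    rw [sub_eq_add_neg]
    congr 1

lemma valN_lt (M r : ℕ) : T.valN M r < 2 := Nat.mod_lt _ two_pos

lemma valN_eq_one_iff (M r : ℕ) : T.valN M r = 1 ↔ T.valZ M r = 1 := by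
  rw [← T.valN_cast]
  have := T.valN_lt M r
  constructor
  · intro e; rw [e]; rfl
  · intro e
    interval_cases hv : T.valN M r
    · exact absurd e (by decide)
    · rfl

lemma valN_eq_zero_iff (M r : ℕ) : T.valN M r = 0 ↔ T.valZ M r = 0 := by
  rw [← T.valN_cast]
  have := T.valN_lt M r
  constructor
  · intro e; rw [e]; rfl
  · intro e
    interval_cases hv : T.valN M r
    · rfl
    · exact absurd e (by decide)

lemma valZ_xor (M N r : ℕ) : T.valZ (M ^^^ N) r = T.valZ M r + T.valZ N r := by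
  rw [valZ, valZ, valZ, ← Finset.sum_add_distrib]
  refine Finset.sum_congr rfl fun j _ => ?_
  rw [Nat.testBit_xor]
  cases M.testBit j <;> cases N.testBit j <;>
    simp [← two_mul, show (2 : ZMod 2) = 0 from rfl]

lemma valZ_two_pow {i : ℕ} (hi : i < T.l) (r : ℕ) : T.valZ (2 ^ i) r = (T.car i r : ZMod 2) := by
  rw [valZ, Finset.sum_eq_single i]
  · rw [if_pos Nat.testBit_two_pow_self]
  · intro j _ hj
    rw [if_neg]
    rw [Nat.testBit_two_pow_of_ne (Ne.symm hj)]; simp
  · simp [hi]

lemma mvMask_eq (i M : ℕ) :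
    T.mvMask i M = if T.valZ M (T.simple i) = 1 then M ^^^ 2 ^ i else M := by
  unfold mvMask
  by_cases e : T.valN M (T.simple i) = 1
  · rw [if_pos ((T.valN_eq_one_iff _ _).1 e), e, Nat.beq_refl, cond_true]
  · rw [if_neg fun e' => e ((T.valN_eq_one_iff _ _).2 e')]
    cases hb : Nat.beq (T.valN M (T.simple i)) 1
    · rfl
    · exact absurd (Nat.eq_of_beq_eq_true hb) e

lemma mvMask_lt {i M : ℕ} (hi : i < T.l) (hM : M < 2 ^ T.l) : T.mvMask i M < 2 ^ T.l := by
  rw [mvMask_eq]
  split
  · exact Nat.xor_lt_two_pow hM (Nat.pow_lt_pow_right (by norm_num) hi)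
  · exact hM

lemma actMask_lt {w : List ℕ} (hw : WordOK T w) {M : ℕ} (hM : M < 2 ^ T.l) :
    T.actMask w M < 2 ^ T.l := by
  induction w with
  | nil => exact hM
  | cons i w ih => exact T.mvMask_lt hw.head (ih hw.tail)

lemma actMask_append (v w : List ℕ) (M : ℕ) :
    T.actMask (v ++ w) M = T.actMask v (T.actMask w M) := by
  simp [actMask, List.foldr_append]

end Tab

namespace Cert

variable {D : ChevalleyDatum} {T : Tab} {C : Tab.Cover} (h : Cert D T C)
include h

lemma valZ_mvMask {i : ℕ} (hi : i < T.l) (M : ℕ) {r : ℕ} (hr : r < T.n) :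
    T.valZ (T.mvMask i M) r = T.valZ M (T.refl i r) := by
  have hcar : T.valZ M (T.refl i r) =
      T.valZ M r + (T.car i r : ZMod 2) * T.valZ M (T.simple i) := by
    rw [Tab.valZ, Tab.valZ, Tab.valZ, Finset.mul_sum, ← Finset.sum_add_distrib]
    refine Finset.sum_congr rfl fun j hj => ?_
    rw [(h.refl_spec hi hr).2.2.2.2.2.2.2.1 j (Finset.mem_range.1 hj)]
    cases M.testBit j
    · simp
    · simp [sub_eq_add_neg, ZMod.neg_eq_self_mod_two]
  rw [hcar, T.mvMask_eq]
  have h01 : ∀ x : ZMod 2, x = 1 ∨ x = 0 := by decide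
  rcases h01 (T.valZ M (T.simple i)) with e | e
  · rw [if_pos e, T.valZ_xor, T.valZ_two_pow hi, e, mul_one]
  · rw [if_neg (by rw [e]; decide), e, mul_zero, add_zero]

lemma mvMask_mvMask {i : ℕ} (hi : i < T.l) (M : ℕ) : T.mvMask i (T.mvMask i M) = M := by
  have hs := h.simple_lt hi
  have e : T.valZ (T.mvMask i M) (T.simple i) = T.valZ M (T.simple i) := by
    rw [h.valZ_mvMask hi M hs, h.refl_simple hi]
    unfold Tab.valZ
    refine Finset.sum_congr rfl fun j hj => ?_
    rw [(h.root_spec hs (Finset.mem_range.1 hj)).2.2.2]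
    cases M.testBit j
    · simp
    · simp [ZMod.neg_eq_self_mod_two]
  rw [T.mvMask_eq i (T.mvMask i M), e, T.mvMask_eq i M]
  split
  · rw [Nat.xor_assoc, Nat.xor_self, Nat.xor_zero]
  · rfl

lemma valZ_actMask {w : List ℕ} (hw : WordOK T w) (M : ℕ) {r : ℕ} (hr : r < T.n) :
    T.valZ (T.actMask w M) r = T.valZ M (rword T w.reverse r) := by
  induction w generalizing r with
  | nil => rfl
  | cons i w ih =>
    show T.valZ (T.mvMask i (T.actMask w M)) r = _
    rw [h.valZ_mvMask hw.head _ hr, ih hw.tail (h.refl_lt hw.head hr), List.reverse_cons,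
      rword_append]
    rfl

lemma actMask_reverse {w : List ℕ} (hw : WordOK T w) (M : ℕ) :
    T.actMask w.reverse (T.actMask w M) = M := by
  induction w generalizing M with
  | nil => rfl
  | cons i w ih =>
    rw [List.reverse_cons, T.actMask_append]
    show T.actMask w.reverse (T.mvMask i (T.mvMask i (T.actMask w M))) = M
    rw [h.mvMask_mvMask hw.head, ih hw.tail]

omit h in
lemma eq_zero_of_valZ (hinj : T.chkInj = true) {M : ℕ} (hM : M < 2 ^ T.l)
    (e : ∀ j < T.l, T.valZ M (T.simple j) = 0) : M = 0 := by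
  have h1 := allBelow_eq_true hinj M hM
  have h2 : (allBelow T.l fun j => Nat.beq (T.valN M (T.simple j)) 0) = true :=
    allBelow_of_forall fun j hj => by
      rw [(T.valN_eq_zero_iff _ _).2 (e j hj)]; rfl
  rw [h2] at h1
  simp only [Bool.not_true, Bool.or_false] at h1
  exact Nat.eq_of_beq_eq_true h1

omit h in
lemma mask_ext (hinj : T.chkInj = true) {M N : ℕ} (hM : M < 2 ^ T.l) (hN : N < 2 ^ T.l)
    (e : ∀ j < T.l, T.valZ M (T.simple j) = T.valZ N (T.simple j)) : M = N := by
  refine Nat.xor_eq_zero_iff.1 (eq_zero_of_valZ hinj (Nat.xor_lt_two_pow hM hN) fun j hj => ?_)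
  rw [T.valZ_xor, e j hj, ← two_mul, show (2 : ZMod 2) = 0 from rfl, zero_mul]

end Cert

/-- The parameters of the sign element. -/
def sgnC (F : Type*) [Field F] (M : ℕ) (i : ℕ) : F := if M.testBit i then -1 else 1

/-- The character of the sign element. -/
def sgnF (T : Tab) (F : Type*) [Field F] (M r : ℕ) : F := if T.valZ M r = 1 then -1 else 1

lemma sgnC_ne_zero {F : Type*} [Field F] (M i : ℕ) : sgnC F M i ≠ 0 := by
  unfold sgnC; split <;> simp

lemma sgnC_eq_charOf (T : Tab) {F : Type*} [Field F] (M r : ℕ) :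
    charOf T (sgnC F M) r = sgnF T F M r := by
  unfold charOf sgnF Tab.valZ
  induction Finset.range T.l using Finset.cons_induction with
  | empty => simp
  | cons a S ha ih =>
    rw [Finset.prod_cons, ih, Finset.sum_cons]
    have h01 : ∀ x : ZMod 2, x = 1 ∨ x = 0 := by decide
    cases hb : M.testBit a
    · simp [sgnC, hb]
    · simp only [sgnC, hb, if_pos]
      rcases Int.even_or_odd (T.car a r) with hev | hodd
      · rw [hev.neg_one_zpow, one_mul, (ZMod.intCast_eq_zero_iff_even).2 hev, zero_add]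
      · rw [hodd.neg_one_zpow, (ZMod.intCast_eq_one_iff_odd).2 hodd]
        rcases h01 (∑ x ∈ S, if M.testBit x then (T.car x r : ZMod 2) else 0) with e | e <;>
          simp [e, show (1 : ZMod 2) + 1 = 0 from rfl]

open Classical in
/-- The sign element of the mask `M`. -/
noncomputable def hMask (D : ChevalleyDatum) (T : Tab) (F : Type*) [Field F] (M : ℕ) :
    GL D.Idx F :=
  if h : IsUnit (torus D (sgnF T F M)) then h.unit else 1

namespace Cert

variable {D : ChevalleyDatum} {T : Tab} {C : Tab.Cover} (h : Cert D T C) {F : Type*} [Field F]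
include h

omit h in
lemma isUnit_torus_sgnF (M : ℕ) : IsUnit (torus D (sgnF T F M)) := by
  refine ⟨⟨torus D (sgnF T F M), torus D (sgnF T F M), ?_, ?_⟩, rfl⟩ <;>
  · rw [torus_mul, ← torus_one D]
    refine torus_congr D fun s _ => ?_
    unfold sgnF; split <;> norm_num

omit h in
lemma coe_hMask (M : ℕ) :
    (hMask D T F M : Matrix D.Idx D.Idx F) = torus D (sgnF T F M) := by
  rw [hMask, dif_pos (isUnit_torus_sgnF M)]; rfl

omit h in
lemma hMask_mul_self (M : ℕ) : hMask D T F M * hMask D T F M = 1 := by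
  refine Units.ext ?_
  rw [Units.val_mul, coe_hMask, torus_mul, Units.val_one, ← torus_one D]
  refine torus_congr D fun s _ => ?_
  unfold sgnF; split <;> norm_num

omit h in
lemma hMask_inv (M : ℕ) : (hMask D T F M)⁻¹ = hMask D T F M :=
  inv_eq_of_mul_eq_one_right (hMask_mul_self M)

lemma hMask_mem (M : ℕ) : hMask D T F M ∈ D.diagonalSubgroup F :=
  h.mem_diagonalSubgroup_iff.2 ⟨sgnC F M, fun i _ => sgnC_ne_zero M i, by
    rw [coe_hMask]; exact torus_congr D fun s _ => (sgnC_eq_charOf T M s).symm⟩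

lemma isChar_sgnF (M : ℕ) : IsChar T (sgnF T F M) := by
  rw [show sgnF T F M = charOf T (sgnC F M) from funext fun r => (sgnC_eq_charOf T M r).symm]
  exact h.isChar_charOf fun i _ => sgnC_ne_zero M i

lemma hMask_conj_X (M : ℕ) {r : ℕ} (hr : r < T.n) (t : F) :
    hMask D T F M * X D r t * (hMask D T F M)⁻¹ = X D r (sgnF T F M r * t) := by
  rw [mul_inv_eq_iff_eq_mul]
  refine Units.ext ?_
  rw [Units.val_mul, Units.val_mul, h.coe_X, h.coe_X, coe_hMask,
    h.torus_mul_x (h.isChar_sgnF M) hr]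

lemma nS_conj_hMask {i : ℕ} (hi : i < T.l) (M : ℕ) :
    nS D F i * hMask D T F M * (nS D F i)⁻¹ = hMask D T F (T.mvMask i M) := by
  rw [mul_inv_eq_iff_eq_mul]
  refine Units.ext ?_
  rw [Units.val_mul, Units.val_mul, h.coe_nS, coe_hMask, coe_hMask, h.simple_eq hi,
    ← h.simple_eq hi, h.nMat_mul_torus hi]
  congr 1
  refine torus_congr D fun s hs => ?_
  rw [h.nroots_eq] at hs
  unfold sgnF
  rw [h.valZ_mvMask hi M hs]

lemma nW_conj_hMask {w : List ℕ} (hw : WordOK T w) (M : ℕ) :
    nW D F w * hMask D T F M * (nW D F w)⁻¹ = hMask D T F (T.actMask w M) := by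
  induction w with
  | nil => simp [nW, Tab.actMask]
  | cons i w ih =>
    rw [nW_cons, show nS D F i * nW D F w * hMask D T F M * (nS D F i * nW D F w)⁻¹ =
      nS D F i * (nW D F w * hMask D T F M * (nW D F w)⁻¹) * (nS D F i)⁻¹ by group, ih hw.tail,
      h.nS_conj_hMask hw.head]
    rfl

lemma hMask_inj (h2 : (2 : F) ≠ 0) (hinj : T.chkInj = true) {M N : ℕ} (hM : M < 2 ^ T.l)
    (hN : N < 2 ^ T.l) (e : hMask D T F M = hMask D T F N) : M = N := by
  refine mask_ext hinj hM hN fun j hj => ?_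
  have e1 := congrArg (fun g : GL D.Idx F => (g : Matrix D.Idx D.Idx F)) e
  simp only [coe_hMask] at e1
  have e2 := congrFun (Matrix.diagonal_injective e1)
    (Sum.inr ⟨T.simple j, lt_of_lt_of_eq (h.simple_lt hj) h.nroots_eq.symm⟩)
  simp only [Sum.elim_inr, sgnF] at e2
  have hne : (-1 : F) ≠ 1 := fun e => h2 (by linear_combination -e)
  have h01 : ∀ x : ZMod 2, x = 1 ∨ x = 0 := by decide
  rcases h01 (T.valZ M (T.simple j)) with a | a <;>
    rcases h01 (T.valZ N (T.simple j)) with b | b <;> simp [a, b, hne, Ne.symm hne] at e2 ⊢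

/-- The diagonal elements of square one are the sign elements. -/
lemma exists_mask (hinj : T.chkInj = true) {g : GL D.Idx F}
    (hg : g ∈ D.diagonalSubgroup F) (hsq : g * g = 1) :
    ∃ M < 2 ^ T.l, g = hMask D T F M := by
  classical
  obtain ⟨c, hc, e⟩ := h.mem_diagonalSubgroup_iff.1 hg
  have e1 := congrArg (fun g : GL D.Idx F => (g : Matrix D.Idx D.Idx F)) hsq
  simp only [Units.val_mul, e, torus_mul, Units.val_one, ← torus_one D] at e1
  have hv : ∀ s < T.n, charOf T c s = 1 ∨ charOf T c s = -1 := fun s hs => by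
    have e2 := congrFun (Matrix.diagonal_injective e1)
      (Sum.inr ⟨s, lt_of_lt_of_eq hs h.nroots_eq.symm⟩)
    exact mul_self_eq_one_iff.1 (by simpa using e2)
  let Φ : Fin (2 ^ T.l) → (Fin T.l → ZMod 2) := fun M j => T.valZ M (T.simple j)
  have hΦ : Function.Injective Φ := fun M N e => Fin.ext
    (mask_ext hinj M.2 N.2 fun j hj => congrFun e ⟨j, hj⟩)
  have hbij : Function.Bijective Φ :=
    (Fintype.bijective_iff_injective_and_card Φ).2 ⟨hΦ, by simp [ZMod.card]⟩
  obtain ⟨M, hM⟩ := hbij.2 fun j => if charOf T c (T.simple j) = 1 then 0 else 1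
  refine ⟨M, M.2, Units.ext ?_⟩
  rw [e, coe_hMask]
  refine torus_congr D fun s hs => ?_
  rw [h.nroots_eq] at hs
  rw [← sgnC_eq_charOf]
  have hc' : ∀ i < T.l, sgnC F M i ≠ 0 := fun i _ => sgnC_ne_zero M i
  have hsimp : ∀ i < T.l, charOf T c (T.simple i) = charOf T (sgnC F M) (T.simple i) := by
    intro i hi
    rw [sgnC_eq_charOf, sgnF, show T.valZ M (T.simple i) = _ from congrFun hM ⟨i, hi⟩]
    by_cases e1 : charOf T c (T.simple i) = 1
    · simp [e1]
    · rw [if_neg e1]
      simp [(hv _ (h.simple_lt hi)).resolve_left e1]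
  refine h.root_induction (P := fun s => charOf T c s = charOf T (sgnC F M) s) hsimp
    (fun i hi r hr ih => ?_) hs
  rw [h.charOf_refl hc hi hr, h.charOf_refl hc' hi hr, ih, hsimp i hi]

end Cert

end CfsgLib.Chev
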