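import Cfsg.Agent.Lib.Chev.Order
import Cfsg.Agent.Lib.Chev.OddInvol.Torus

/-!
The centralizer of a sign element of the diagonal subgroup, cell by cell.
-/

set_option autoImplicit false

namespace CfsgLib.Chev

open Cfsg.Lie Matrix

/-- The roots of a list at which the sign element is trivial. -/
noncomputable def fixList (T : Tab) (M : ℕ) (L : List ℕ) : List ℕ :=
  L.filter fun r => decide (T.valN M r = 0)

/-- The exponent of the cell of a word in the centralizer. -/
noncomputable def fixExp (T : Tab) (M : ℕ) (w : List ℕ) : ℕ :=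
  (fixList T M (cellList T w)).length

namespace Cert

variable {D : ChevalleyDatum} {T : Tab} {C : Tab.Cover} (h : Cert D T C) {F : Type*} [Field F]
include h

lemma hMask_conj_prodX (M : ℕ) (t : ℕ → F) : ∀ L : List ℕ, (∀ r ∈ L, r < T.n) →
    hMask D T F M * prodX D L t * (hMask D T F M)⁻¹ =
      prodX D L fun r => sgnF T F M r * t r
  | [], _ => by simp [prodX]
  | a :: L, hL => by
    have e := hMask_conj_prodX M t L fun r hr => hL r (List.mem_cons_of_mem _ hr)
    unfold prodX at e ⊢
    rw [List.map_cons, List.prod_cons, List.map_cons, List.prod_cons, ← e,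
      ← h.hMask_conj_X M (hL a List.mem_cons_self) (t a)]
    group

lemma card_gen_fix [Fintype F] (h2 : (2 : F) ≠ 0) (M : ℕ) (L : List ℕ) (hL : L.SortedLT)
    (hpos : ∀ r ∈ L, r ∈ posSet T) (hc : CommClosed T {r | r ∈ L}) :
    Nat.card {g : GL D.Idx F // g ∈ gen D F {r | r ∈ L} ∧
      hMask D T F M * g * (hMask D T F M)⁻¹ = g} =
        Fintype.card F ^ (fixList T M L).length := by
  classical
  set L' := fixList T M L with hL'
  have hmem' : ∀ r, r ∈ L' ↔ r ∈ L ∧ T.valZ M r = 0 := by
    intro r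
    rw [hL', fixList, List.mem_filter, decide_eq_true_eq, T.valN_eq_zero_iff]
  have hlt : ∀ r ∈ L, r < T.n := fun r hr => (hpos r hr).2
  let ext : ({r // r ∈ L'} → F) → ℕ → F := fun f r => if hr : r ∈ L' then f ⟨r, hr⟩ else 0
  have hfix : ∀ f : {r // r ∈ L'} → F,
      hMask D T F M * prodX D L (ext f) * (hMask D T F M)⁻¹ = prodX D L (ext f) := by
    intro f
    rw [h.hMask_conj_prodX M _ L hlt]
    unfold prodX
    refine congrArg List.prod (List.map_congr_left fun r hr => ?_)
    show X D r (sgnF T F M r * ext f r) = X D r (ext f r)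
    by_cases hr' : r ∈ L'
    · rw [sgnF, if_neg, one_mul]
      rw [((hmem' r).1 hr').2]; decide
    · simp [ext, hr']
  let e : ({r // r ∈ L'} → F) → {g : GL D.Idx F // g ∈ gen D F {r | r ∈ L} ∧
      hMask D T F M * g * (hMask D T F M)⁻¹ = g} := fun f =>
    ⟨prodX D L (ext f), prodX_mem_gen L (ext f), hfix f⟩
  have hb : Function.Bijective e := by
    constructor
    · intro f f' hff
      funext r
      have h1 := h.prodX_inj L hL hpos _ _ (congrArg Subtype.val hff) r.1 ((hmem' r).1 r.2).1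
      simpa [ext, r.2] using h1
    · rintro ⟨g, hg, hgf⟩
      obtain ⟨t, rfl⟩ := h.exists_prodX L hL hpos hc g hg
      rw [h.hMask_conj_prodX M _ L hlt] at hgf
      refine ⟨fun r => t r.1, Subtype.ext ?_⟩
      show prodX D L _ = prodX D L t
      unfold prodX
      refine congrArg List.prod (List.map_congr_left fun r hr => ?_)
      by_cases hr' : r ∈ L'
      · simp [ext, hr']
      · have h1 := h.prodX_inj L hL hpos _ _ hgf r hr
        have hv : T.valZ M r = 1 := by
          have h01 : ∀ x : ZMod 2, x = 1 ∨ x = 0 := by decide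
          exact (h01 _).resolve_right fun e => hr' ((hmem' r).2 ⟨hr, e⟩)
        rw [sgnF, if_pos hv] at h1
        have h3 : (2 : F) * t r = 0 := by linear_combination -h1
        rw [(mul_eq_zero.1 h3).resolve_left h2]
        simp [ext, hr']
  have hnd : L'.Nodup := by rw [hL', fixList]; exact hL.nodup.filter _
  rw [← Nat.card_eq_of_bijective e hb, Nat.card_fun, Nat.card_eq_fintype_card,
    Nat.card_eq_fintype_card, Fintype.card_of_subtype L'.toFinset fun r => List.mem_toFinset,
    List.toFinset_card_of_nodup hnd]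

lemma diag_commute_of_mem {a b : GL D.Idx F} (ha : a ∈ D.diagonalSubgroup F)
    (hb : b ∈ D.diagonalSubgroup F) : a * b = b * a := by
  obtain ⟨c, -, e⟩ := h.mem_diagonalSubgroup_iff.1 ha
  obtain ⟨d, -, e'⟩ := h.mem_diagonalSubgroup_iff.1 hb
  refine Units.ext ?_
  rw [Units.val_mul, Units.val_mul, e, e', torus_mul, torus_mul]
  exact torus_congr D fun s _ => mul_comm _ _

/-- The order of the centralizer of a sign element. -/
theorem card_centralizer_hMask [Fintype F] (h2 : (2 : F) ≠ 0) (hI : T.chkInj = true)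
    {Lv : List Level} (hLv : T.chkLevels Lv = true) {M : ℕ} (hM : M < 2 ^ T.l) :
    Nat.card {g : GL D.Idx F // g ∈ D.group F ∧
        hMask D T F M * g * (hMask D T F M)⁻¹ = g} =
      Fintype.card F ^ (fixList T M (posList T)).length * Nat.card (D.diagonalSubgroup F) *
        (((transversal Lv T.l).filter fun w => decide (T.actMask w M = M)).map
          fun w => Fintype.card F ^ fixExp T M w).sum := by
  classical
  set s := hMask D T F M with hs
  set W := ((transversal Lv T.l).filter fun w => decide (T.actMask w M = M)).toFinset with hW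
  have hWmem : ∀ w, w ∈ W ↔ w ∈ transversal Lv T.l ∧ T.actMask w M = M := by
    intro w; rw [hW, List.mem_toFinset, List.mem_filter, decide_eq_true_eq]
  have hok : ∀ w : W, WordOK T w.1 := fun w =>
    h.transversal_ok hLv le_rfl ((hWmem _).1 w.2).1
  let V : List ℕ → Type _ := fun w =>
    {g : GL D.Idx F // g ∈ gen D F {r | r ∈ cellList T w} ∧ s * g * s⁻¹ = g}
  let U0 := {g : GL D.Idx F // g ∈ gen D F {r | r ∈ posList T} ∧ s * g * s⁻¹ = g}
  have hUle : ∀ {g}, g ∈ gen D F {r | r ∈ posList T} → g ∈ D.posUnipotent F := fun hg => by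
    rwa [h.posUnipotent_eq, ← posList_set]
  have hsH : s ∈ D.diagonalSubgroup F := h.hMask_mem M
  have hcl : ∀ w : W, ∀ g, g ∈ gen D F {r | r ∈ cellList T w.1} → g ∈ D.group F := fun w g hg =>
    h.gen_le_group (fun r hr => (mem_cellList.1 hr).1.2) hg
  have hnfix : ∀ w : W, s * nW D F w.1 * s⁻¹ = nW D F w.1 := by
    intro w
    have e := h.nW_conj_hMask (F := F) (hok w) M
    rw [((hWmem _).1 w.2).2, ← hs, mul_inv_eq_iff_eq_mul] at e
    rw [← e]; group
  let e : (U0 × D.diagonalSubgroup F) × (Σ w : W, V w.1) →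
      {g : GL D.Idx F // g ∈ D.group F ∧ s * g * s⁻¹ = g} := fun p =>
    ⟨p.1.1.1 * p.1.2.1 * nW D F p.2.1.1 * p.2.2.1,
      mul_mem (mul_mem (mul_mem (h.posUnipotent_le_group (hUle p.1.1.2.1))
        (h.diagonal_le_group p.1.2.2)) (h.monomial_le_group (h.nW_mem_monomial (hok _))))
        (hcl _ _ p.2.2.2.1), by
      obtain ⟨⟨⟨u0, -, hu0⟩, ⟨t, ht⟩⟩, w, ⟨u, -, hu⟩⟩ := p
      show s * (u0 * t * nW D F w.1 * u) * s⁻¹ = u0 * t * nW D F w.1 * u
      rw [show s * (u0 * t * nW D F w.1 * u) * s⁻¹ =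
        (s * u0 * s⁻¹) * (s * t * s⁻¹) * (s * nW D F w.1 * s⁻¹) * (s * u * s⁻¹) by group,
        hu0, hu, hnfix w, show s * t * s⁻¹ = t by
          rw [h.diag_commute_of_mem hsH ht, mul_inv_cancel_right]]⟩
  have hcellU : ∀ {w : List ℕ}, WordOK T w → ∀ {g},
      g ∈ gen D F {r | r ∈ cellList T w} → g ∈ cellUnipotent D F (nW D F w) := fun hw g hg => by
    rwa [h.cellUnipotent_word hw]
  have hinfU : ∀ {a b c d : GL D.Idx F}, a ∈ D.posUnipotent F → c ∈ D.posUnipotent F →
      b ∈ D.diagonalSubgroup F → d ∈ D.diagonalSubgroup F → a * b = c * d → a = c ∧ b = d := by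
    intro a b c d ha hc hb hd hab
    have h1 : c⁻¹ * a ∈ D.posUnipotent F ⊓ D.diagonalSubgroup F := by
      refine Subgroup.mem_inf.2 ⟨mul_mem (inv_mem hc) ha, ?_⟩
      rw [show c⁻¹ * a = d * b⁻¹ by
        rw [eq_mul_inv_iff_mul_eq, mul_assoc, hab, inv_mul_cancel_left]]
      exact mul_mem hd (inv_mem hb)
    rw [h.posUnipotent_inf_diagonal, Subgroup.mem_bot, inv_mul_eq_one] at h1
    subst h1
    exact ⟨rfl, mul_left_cancel hab⟩
  have hbB : ∀ {a b : GL D.Idx F}, a ∈ D.posUnipotent F → b ∈ D.diagonalSubgroup F →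
      a * b ∈ D.borelSubgroup F := fun ha hb => h.mem_borel_iff.2 ⟨_, ha, _, hb, rfl⟩
  have hbij : Function.Bijective e := by
    constructor
    · rintro ⟨⟨⟨u0, hu0, hu0'⟩, ⟨t, ht⟩⟩, w, ⟨u, hu, hu'⟩⟩
        ⟨⟨⟨v0, hv0, hv0'⟩, ⟨t', ht'⟩⟩, w', ⟨v, hv, hv'⟩⟩ hpp
      have hval : u0 * t * nW D F w.1 * u = v0 * t' * nW D F w'.1 * v := congrArg Subtype.val hpp
      obtain ⟨h1, h3⟩ := h.bruhat_unique (hbB (hUle hu0) ht) (hbB (hUle hv0) ht')
        (h.nW_mem_monomial (hok w)) (h.nW_mem_monomial (hok w')) (hcellU (hok w) hu)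
        (hcellU (hok w') hv) hval
      have hsame : SameAct T w'.1 w.1 := by
        intro r hr
        have h4 : Maps D (nW D F w'.1) r (rword T w.1 r) := by
          have := Maps_mul (h.Maps_diagonal h1 hr) (h.Maps_nW (F := F) (hok w) hr)
          rwa [mul_inv_cancel_left] at this
        exact h.Maps_unique (h.rword_lt (hok w') hr) (h.rword_lt (hok w) hr)
          (h.Maps_nW (hok w') hr) h4
      have hww : w = w' := by
        by_contra hne
        have hne' : w'.1 ≠ w.1 := fun e => hne (Subtype.ext e.symm)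
        obtain ⟨i, hi, ei⟩ := List.getElem_of_mem ((hWmem _).1 w'.2).1
        obtain ⟨j, hj, ej⟩ := List.getElem_of_mem ((hWmem _).1 w.2).1
        have hpw := List.pairwise_iff_getElem.1 (h.transversal_inj hLv T.l le_rfl)
        rcases lt_trichotomy i j with hij | rfl | hij
        · exact hpw i j hi hj hij (by rw [ei, ej]; exact hsame)
        · exact hne' (ei.symm.trans ej)
        · exact hpw j i hj hi hij (by rw [ei, ej]; exact fun r hr => (hsame r hr).symm)
      subst hww
      obtain ⟨hb, rfl⟩ := h3 rfl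
      obtain ⟨rfl, rfl⟩ := hinfU (hUle hu0) (hUle hv0) ht ht' hb
      rfl
    · rintro ⟨g, hg, hgs⟩
      obtain ⟨b, hb, n, hn, u, hu, rfl⟩ := h.bruhat_exists hg
      obtain ⟨w, hw, t, ht, rfl⟩ := h.exists_transversal_monomial hLv hn
      have hwok := h.transversal_ok hLv le_rfl hw
      have hu' : u ∈ gen D F {r | r ∈ cellList T w} := by
        rw [← h.cellUnipotent_word hwok, h.cellUnipotent_eq (π := rword T w)
          fun r hr => ⟨h.rword_lt hwok hr, h.Maps_nW hwok hr⟩]
        rwa [h.cellUnipotent_eq (π := rword T w) fun r hr => ⟨h.rword_lt hwok hr,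
          Maps_mul (h.Maps_nW hwok hr) (h.Maps_diagonal ht (h.rword_lt hwok hr))⟩] at hu
      obtain ⟨u0, hu0, t0, ht0, rfl⟩ := h.mem_borel_iff.1 hb
      rw [h.posUnipotent_eq, ← posList_set] at hu0
      have hu0s : s * u0 * s⁻¹ ∈ gen D F {r | r ∈ posList T} :=
        (Subgroup.mem_normalizer_iff.1
          (h.diagonal_le_normalizer_gen (fun r hr => (mem_posList.1 hr).2) hsH) u0).1 hu0
      have hus : s * u * s⁻¹ ∈ gen D F {r | r ∈ cellList T w} :=
        (Subgroup.mem_normalizer_iff.1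
          (h.diagonal_le_normalizer_gen (fun r hr => (mem_cellList.1 hr).1.2) hsH) u).1 hu'
      set d := s * (nW D F w * s * (nW D F w)⁻¹) with hd
      have hdH : d ∈ D.diagonalSubgroup F := by
        rw [hd, hs, h.nW_conj_hMask hwok]; exact mul_mem hsH (h.hMask_mem _)
      have hsn : s * nW D F w * s⁻¹ = d * nW D F w := by
        rw [hd, hs, hMask_inv]; group
      have e1 : (s * u0 * s⁻¹) * (t0 * t * d) * nW D F w * (s * u * s⁻¹) =
          u0 * (t0 * t) * nW D F w * u := by
        have et : s * (t0 * t) * s⁻¹ = t0 * t := by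
          rw [h.diag_commute_of_mem hsH (mul_mem ht0 ht), mul_inv_cancel_right]
        calc (s * u0 * s⁻¹) * (t0 * t * d) * nW D F w * (s * u * s⁻¹)
            = (s * u0 * s⁻¹) * (t0 * t) * (d * nW D F w) * (s * u * s⁻¹) := by group
          _ = (s * u0 * s⁻¹) * (s * (t0 * t) * s⁻¹) * (s * nW D F w * s⁻¹) * (s * u * s⁻¹) := by
              rw [et, hsn]
          _ = s * (u0 * t0 * (t * nW D F w) * u) * s⁻¹ := by group
          _ = _ := by rw [hgs]; group
      obtain ⟨-, h3⟩ := h.bruhat_unique (hbB (hUle hu0s) (mul_mem (mul_mem ht0 ht) hdH))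
        (hbB (hUle hu0) (mul_mem ht0 ht)) (h.nW_mem_monomial hwok) (h.nW_mem_monomial hwok)
        (hcellU hwok hus) (hcellU hwok hu') e1
      obtain ⟨h4, h5⟩ := h3 rfl
      obtain ⟨h6, h7⟩ := hinfU (hUle hu0s) (hUle hu0) (mul_mem (mul_mem ht0 ht) hdH)
        (mul_mem ht0 ht) h4
      have hd1 : d = 1 := mul_eq_left.1 h7
      have hwM : T.actMask w M = M := by
        refine h.hMask_inj (F := F) h2 hI (T.actMask_lt hwok hM) hM ?_
        rw [hd, hs, h.nW_conj_hMask hwok, ← hs, mul_eq_one_iff_inv_eq, hs, hMask_inv] at hd1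
        exact hd1.symm
      refine ⟨((⟨u0, hu0, h6⟩, ⟨t0 * t, mul_mem ht0 ht⟩),
        ⟨⟨w, (hWmem w).2 ⟨hw, hwM⟩⟩, ⟨u, hu', h5⟩⟩), Subtype.ext ?_⟩
      show u0 * (t0 * t) * nW D F w * u = u0 * t0 * (t * nW D F w) * u
      group
  rw [← Nat.card_eq_of_bijective e hbij, Nat.card_prod, Nat.card_prod, Nat.card_sigma,
    h.card_gen_fix h2 M _ sortedLT_posList (fun r hr => mem_posList.1 hr)
      (by rw [posList_set]; exact h.commClosed_posSet)]
  congr 1
  have hnd : ((transversal Lv T.l).filter fun w => decide (T.actMask w M = M)).Nodup :=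
    (((h.transversal_inj hLv T.l le_rfl).imp fun hab e => hab fun r _ => by rw [e])).filter _
  rw [← List.sum_toFinset _ hnd, ← hW, ← Finset.sum_coe_sort W]
  refine Finset.sum_congr rfl fun w _ => ?_
  exact h.card_gen_fix h2 M _ (sortedLT_cellList w.1) (fun r hr => (mem_cellList.1 hr).1)
    (h.commClosed_cellList (hok w))

end Cert

end CfsgLib.Chev
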