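import Cfsg.Agent.Lib.Chev.OddInvol.Classes
import Cfsg.Agent.Lib.Chev.OddInvol.DataE8

/-!
Kernel checks of the tables of type E8.
-/

set_option autoImplicit false
set_option maxRecDepth 200000

namespace CfsgLib.Chev.OddInvolE8

theorem chkOrth : tabE8.chkOrth = true := by decide +kernel

theorem chkInj : tabE8.chkInj = true := by decide +kernel

theorem chkOddOrb : tabE8.chkOddOrb orbRank sMask tMask = true := by decide +kernel

theorem chkVal : tabE8.chkVal parTable = true := by decide +kernel

theorem chkS :
    tabE8.chkDP levelsE8 parTable parSimple sMask negTables sSums sPoly = true := by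
  decide +kernel

theorem chkT :
    tabE8.chkDP levelsE8 parTable parSimple tMask negTables tSums tPoly = true := by
  decide +kernel

theorem fixS : (fixList tabE8 sMask (posList tabE8)).length = 56 := by decide +kernel

theorem fixT : (fixList tabE8 tMask (posList tabE8)).length = 64 := by decide +kernel

end CfsgLib.Chev.OddInvolE8
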