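import Cfsg.Agent.Lib.Chev.OddInvol.Count
import Cfsg.Agent.Lib.Chev.WeylF4

/-!
Tables for the sign elements of the diagonal subgroup of type F4 (generated).
-/

set_option autoImplicit false
set_option maxRecDepth 200000

namespace CfsgLib.Chev.OddInvolF4

/-- Parities of the masks at each root. -/
def parTable : List ℕ :=
  [65280, 4080, 61680, 43690, 61680, 4080, 65280, 26214, 15420, 49980, 13260, 39270, 27030, 38550, 52428, 61680, 4080, 65280, 21930, 42330, 23130, 4080, 65280, 61680, 61680, 65280, 4080, 23130, 42330, 21930, 65280, 4080, 61680, 52428, 38550, 27030, 39270, 13260, 49980, 15420, 26214, 65280, 4080, 61680, 43690, 61680, 4080, 65280]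

/-- Parities at the simple roots. -/
def parSimple : List ℕ :=
  [52428, 23130, 65280, 61680]

/-- Distance of each mask to its representative. -/
def orbRank : List ℕ :=
  [0, 0, 2, 1, 0, 7, 1, 2, 2, 5, 3, 4, 1, 6, 2, 3]

/-- Reversed words and parities of their negative images, level 1. -/
def negTable1 : List (List ℕ × List ℕ) :=
  [([], []),
   ([0], [52428])]

/-- Reversed words and parities of their negative images, level 2. -/
def negTable2 : List (List ℕ × List ℕ) :=
  [([], []),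
   ([1], [23130]),
   ([1, 0], [38550, 52428])]

/-- Reversed words and parities of their negative images, level 3. -/
def negTable3 : List (List ℕ × List ℕ) :=
  [([], []),
   ([2], [65280]),
   ([2, 1], [65280, 23130]),
   ([2, 1, 2], [65280, 42330, 65280]),
   ([2, 1, 0], [65280, 38550, 52428]),
   ([2, 1, 0, 2], [65280, 27030, 65280, 52428]),
   ([2, 1, 0, 2, 1], [65280, 13260, 65280, 38550, 23130]),
   ([2, 1, 0, 2, 1, 2], [65280, 13260, 65280, 27030, 42330, 65280])]

/-- Reversed words and parities of their negative images, level 4. -/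
def negTable4 : List (List ℕ × List ℕ) :=
  [([], []),
   ([3], [61680]),
   ([3, 2], [4080, 65280]),
   ([3, 2, 1], [4080, 65280, 23130]),
   ([3, 2, 1, 0], [4080, 65280, 38550, 52428]),
   ([3, 2, 1, 2], [61680, 65280, 42330, 65280]),
   ([3, 2, 1, 0, 2], [61680, 65280, 27030, 65280, 52428]),
   ([3, 2, 1, 2, 3], [61680, 4080, 21930, 4080, 61680]),
   ([3, 2, 1, 0, 2, 1], [61680, 65280, 13260, 65280, 38550, 23130]),
   ([3, 2, 1, 0, 2, 3], [61680, 4080, 39270, 4080, 61680, 52428]),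
   ([3, 2, 1, 0, 2, 1, 2], [4080, 65280, 13260, 65280, 27030, 42330, 65280]),
   ([3, 2, 1, 0, 2, 1, 3], [61680, 4080, 49980, 4080, 61680, 38550, 23130]),
   ([3, 2, 1, 0, 2, 1, 2, 3], [65280, 4080, 49980, 4080, 39270, 21930, 4080, 61680]),
   ([3, 2, 1, 0, 2, 1, 3, 2], [4080, 61680, 15420, 61680, 4080, 27030, 42330, 65280]),
   ([3, 2, 1, 0, 2, 1, 2, 3, 2], [65280, 61680, 15420, 61680, 65280, 39270, 21930, 61680, 4080]),
   ([3, 2, 1, 0, 2, 1, 3, 2, 1], [4080, 61680, 26214, 61680, 4080, 13260, 42330, 23130, 65280]),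
   ([3, 2, 1, 0, 2, 1, 2, 3, 2, 1], [65280, 61680, 26214, 61680, 65280, 49980, 21930, 23130, 61680, 4080]),
   ([3, 2, 1, 0, 2, 1, 3, 2, 1, 0], [4080, 61680, 43690, 61680, 4080, 13260, 27030, 38550, 52428, 65280]),
   ([3, 2, 1, 0, 2, 1, 2, 3, 2, 1, 2], [65280, 4080, 26214, 4080, 65280, 15420, 21930, 42330, 4080, 65280, 61680]),
   ([3, 2, 1, 0, 2, 1, 2, 3, 2, 1, 0], [65280, 61680, 43690, 61680, 65280, 49980, 39270, 38550, 52428, 61680, 4080]),
   ([3, 2, 1, 0, 2, 1, 2, 3, 2, 1, 0, 2], [65280, 4080, 43690, 4080, 65280, 15420, 39270, 27030, 52428, 4080, 65280, 61680]),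
   ([3, 2, 1, 0, 2, 1, 2, 3, 2, 1, 0, 2, 1], [65280, 4080, 43690, 4080, 65280, 26214, 49980, 13260, 38550, 4080, 65280, 23130, 61680]),
   ([3, 2, 1, 0, 2, 1, 2, 3, 2, 1, 0, 2, 1, 2], [65280, 61680, 43690, 61680, 65280, 26214, 15420, 13260, 27030, 61680, 65280, 42330, 65280, 4080]),
   ([3, 2, 1, 0, 2, 1, 2, 3, 2, 1, 0, 2, 1, 2, 3], [4080, 61680, 43690, 61680, 4080, 26214, 15420, 49980, 39270, 61680, 4080, 21930, 4080, 61680, 65280])]

/-- All levels. -/
def negTables : List (List (List ℕ × List ℕ)) :=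
  [negTable1, negTable2, negTable3, negTable4]

/-- A representative with orbit of size 3. -/
def sMask : ℕ := 1

/-- Partial sums below level 1. -/
def sSum0 : List ℕ :=
  [0, 1, 0, 0, 0, 0, 0, 0, 0, 0, 0, 0, 0, 0, 0, 0]

/-- Partial sums below level 2. -/
def sSum1 : List ℕ :=
  [0, 0x100000001, 0, 0, 0, 0, 0, 0, 0, 0, 0, 0, 0, 0, 0, 0]

/-- Partial sums below level 3. -/
def sSum2 : List ℕ :=
  [0, 0x100000001, 0x100000001, 0x100000001, 0, 0, 0, 0, 0, 0, 0, 0, 0, 0, 0, 0]

/-- Partial sums below level 4. -/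
def sSum3 : List ℕ :=
  [0, 0x10000000300000004000000040000000300000001, 0x10000000300000004000000040000000300000001, 0x10000000300000004000000040000000300000001, 0, 0, 0, 0, 0, 0, 0, 0, 0, 0, 0, 0]

/-- Partial sums. -/
def sSums : List (List ℕ) := [sSum0, sSum1, sSum2, sSum3]

/-- The inversion polynomial of the stabilizer. -/
def sPoly : List ℕ :=
  [1, 4, 9, 16, 24, 32, 39, 44, 46, 44, 39, 32, 24, 16, 9, 4, 1, 0, 0, 0, 0, 0, 0, 0, 0]

/-- A representative with orbit of size 12. -/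
def tMask : ℕ := 4

/-- Partial sums below level 1. -/
def tSum0 : List ℕ :=
  [0, 0, 0, 0, 1, 0, 0, 0, 0, 0, 0, 0, 0, 0, 0, 0]

/-- Partial sums below level 2. -/
def tSum1 : List ℕ :=
  [0, 0, 0, 0, 0x100000001, 0, 0, 0, 0, 0, 0, 0, 0, 0, 0, 0]

/-- Partial sums below level 3. -/
def tSum2 : List ℕ :=
  [0, 0, 0, 0, 0x100000001, 0, 0x100000001, 0x100000001, 0, 0, 0, 0, 0, 0, 0, 0]

/-- Partial sums below level 4. -/
def tSum3 : List ℕ :=
  [0, 0, 0, 0, 0x10000000300000004000000040000000300000001, 0, 0x10000000300000004000000040000000300000001, 0x10000000300000004000000040000000300000001, 0, 0, 0, 0, 0, 0, 0, 0]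

/-- Partial sums. -/
def tSums : List (List ℕ) := [tSum0, tSum1, tSum2, tSum3]

/-- The inversion polynomial of the stabilizer. -/
def tPoly : List ℕ :=
  [1, 4, 8, 12, 15, 16, 15, 12, 8, 4, 1, 0, 0, 0, 0, 0, 0, 0, 0, 0, 0, 0, 0, 0, 0]

end CfsgLib.Chev.OddInvolF4
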