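import Cfsg.Agent.Lib.Chev.OddInvol.Classes
import Cfsg.Agent.Lib.Chev.OddInvol.DataF4

/-!
Kernel checks of the tables of type F4.
-/

set_option autoImplicit false
set_option maxRecDepth 200000

namespace CfsgLib.Chev.OddInvolF4

theorem chkOrth : tabF4.chkOrth = true := by decide +kernel

theorem chkInj : tabF4.chkInj = true := by decide +kernel

theorem chkOddOrb : tabF4.chkOddOrb orbRank sMask tMask = true := by decide +kernel

theorem chkVal : tabF4.chkVal parTable = true := by decide +kernel

theorem chkS :
    tabF4.chkDP levelsF4 parTable parSimple sMask negTables sSums sPoly = true := by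
  decide +kernel

theorem chkT :
    tabF4.chkDP levelsF4 parTable parSimple tMask negTables tSums tPoly = true := by
  decide +kernel

theorem fixS : (fixList tabF4 sMask (posList tabF4)).length = 16 := by decide +kernel

theorem fixT : (fixList tabF4 tMask (posList tabF4)).length = 10 := by decide +kernel

end CfsgLib.Chev.OddInvolF4
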