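import Cfsg.Agent.Lib.Chev.OddInvol.Cent

/-!
The inversion polynomial of the stabilizer of a mask, computed level by level along a chain of
parabolic subgroups.
-/

set_option autoImplicit false

namespace CfsgLib.Chev

open Cfsg.Lie

namespace Tab

variable (T : Tab)

/-- The negative images of the positive roots under a word. -/
noncomputable def negImg (d : List ℕ) : List ℕ :=
  ((posList T).filter fun r => Nat.blt (T.rwordF d r) T.half).map (T.rwordF d)

/-- The `k`-th bit. -/
def obit (a k : ℕ) : Bool := Nat.beq (Nat.land (Nat.shiftRight a k) 1) 1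

/-- The table `tb` gives the parity of every mask at every root. -/
noncomputable def chkVal (tb : List ℕ) : Bool :=
  allBelow T.n fun x => allBelow (2 ^ T.l) fun M =>
    Nat.beq (cond (obit (tb.getD x 0) M) 1 0) (T.valN M x)

/-- Fast action of a simple reflection on the masks. -/
def mvF (st : List ℕ) (i M : ℕ) : ℕ :=
  cond (obit (st.getD i 0) M) (Nat.xor M (Nat.pow 2 i)) M

/-- Fast action of a word on the masks. -/
noncomputable def actF (st : List ℕ) (w : List ℕ) (M : ℕ) : ℕ :=
  List.rec (motive := fun _ => ℕ) M (fun i _ ih => mvF st i ih) w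

/-- Number of zero bits at `M`. -/
noncomputable def cntF (L : List ℕ) (M : ℕ) : ℕ :=
  List.rec (motive := fun _ => ℕ) 0 (fun a _ ih => cond (obit a M) ih (Nat.succ ih)) L

/-- One step of the recursion, at the mask `M`. -/
noncomputable def stepF (st P : List ℕ) (ds : List (List ℕ × List ℕ)) (M : ℕ) : ℕ :=
  List.rec (motive := fun _ => ℕ) 0
    (fun p _ ih => Nat.add (Nat.shiftLeft (P.getD (actF st p.1 M) 0) (Nat.mul 32 (cntF p.2 M))) ih)
    ds

/-- The data of a level are right. -/
noncomputable def chkNegs (tb : List ℕ) (v : Level) (ds : List (List ℕ × List ℕ)) : Bool :=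
  decide (ds = v.reps.map fun d => (d.reverse, (T.negImg d).map fun x => tb.getD x 0))

/-- All tables check out. -/
noncomputable def chkDP (Lv : List Level) (tb st : List ℕ) (M : ℕ)
    (ds : List (List (List ℕ × List ℕ))) (P : List (List ℕ)) (E : List ℕ) : Bool :=
  decide (st = (List.range T.l).map fun i => tb.getD (T.simple i) 0) &&
  (decide (ds.length = T.l ∧ 0 < T.l) &&
  ((allBelow T.l fun k => T.chkNegs tb (Lv.getD k ⟨[], [], []⟩) (ds.getD k [])) &&
  ((allBelow (2 ^ T.l) fun N => Nat.beq ((P.getD 0 []).getD N 0) (cond (Nat.beq N M) 1 0)) &&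
  ((allBelow (T.l - 1) fun k => allBelow (2 ^ T.l) fun N =>
      Nat.beq ((P.getD (k + 1) []).getD N 0) (stepF st (P.getD k []) (ds.getD k []) N)) &&
  (decide (T.half < E.length) &&
  (E.all (fun c => Nat.blt c (2 ^ 32)) &&
  (Nat.blt ((Lv.map fun v => v.reps.length).prod) (2 ^ 32) &&
   Nat.beq (stepF st (P.getD (T.l - 1) []) (ds.getD (T.l - 1) []) M)
     (sumBelow E.length fun i => Nat.mul (E.getD i 0) (Nat.pow (2 ^ 32) i)))))))))

lemma obit_eq_of {tb : List ℕ} (h : T.chkVal tb = true) {M x : ℕ} (hM : M < 2 ^ T.l) (hx : x < T.n) :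
    obit (tb.getD x 0) M = decide (T.valN M x = 1) := by
  have h1 := Nat.eq_of_beq_eq_true (allBelow_eq_true (allBelow_eq_true h x hx) M hM)
  cases hb : obit (tb.getD x 0) M
  · rw [hb, cond_false] at h1
    rw [← h1]; rfl
  · rw [hb, cond_true] at h1
    rw [← h1]; rfl

lemma actF_eq {tb st : List ℕ} (h : T.chkVal tb = true)
    (hst : st = (List.range T.l).map fun i => tb.getD (T.simple i) 0)
    (hs : ∀ i < T.l, T.simple i < T.n) : ∀ {w : List ℕ}, WordOK T w → ∀ {M : ℕ}, M < 2 ^ T.l →
      actF st w M = T.actMask w M := by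
  intro w hw M hM
  induction w with
  | nil => rfl
  | cons i w ih =>
    have hi := hw.head
    show mvF st i (actF st w M) = T.mvMask i (T.actMask w M)
    rw [ih hw.tail]
    have hlt := T.actMask_lt hw.tail hM
    have e : st.getD i 0 = tb.getD (T.simple i) 0 := by
      rw [hst, List.getD_eq_getElem _ _ (by simpa using hi)]; simp
    unfold mvF mvMask
    rw [e, T.obit_eq_of h hlt (hs i hi)]
    by_cases hv : T.valN (T.actMask w M) (T.simple i) = 1
    · rw [decide_eq_true hv, hv, Nat.beq_refl, cond_true, cond_true]; rfl
    · rw [decide_eq_false hv]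
      cases hb : Nat.beq (T.valN (T.actMask w M) (T.simple i)) 1
      · rfl
      · exact absurd (Nat.eq_of_beq_eq_true hb) hv

lemma cntF_map {tb : List ℕ} (h : T.chkVal tb = true) {M : ℕ} (hM : M < 2 ^ T.l) :
    ∀ L : List ℕ, (∀ x ∈ L, x < T.n) →
      cntF (L.map fun x => tb.getD x 0) M = (L.filter fun x => decide (T.valN M x = 0)).length
  | [], _ => rfl
  | a :: L, hL => by
    have ih := cntF_map h hM L fun x hx => hL x (List.mem_cons_of_mem _ hx)
    have hlt := T.valN_lt M a
    show cond (obit (tb.getD a 0) M) (cntF (L.map fun x => tb.getD x 0) M)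
      (Nat.succ (cntF (L.map fun x => tb.getD x 0) M)) = _
    rw [T.obit_eq_of h hM (hL a List.mem_cons_self), ih, List.filter_cons]
    by_cases hv : T.valN M a = 1
    · rw [decide_eq_true hv, cond_true, if_neg (by rw [hv]; decide)]
    · have h0 : T.valN M a = 0 := by omega
      rw [decide_eq_false hv, cond_false, if_pos (decide_eq_true h0)]
      rfl

lemma rwordF_negImg_lt {d : List ℕ} (hlt : ∀ r < T.n, rword T d r < T.n) :
    ∀ x ∈ T.negImg d, x < T.n := by
  intro x hx
  simp only [negImg, List.mem_map, List.mem_filter] at hx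
  obtain ⟨r, ⟨hr, -⟩, rfl⟩ := hx
  rw [T.rwordF_eq]
  exact hlt r (Cert.mem_posList.1 hr).2

end Tab

/-- The number of inversions with trivial sign on the image side. -/
noncomputable def imgExp (T : Tab) (N : ℕ) (d : List ℕ) : ℕ :=
  ((T.negImg d).filter fun x => decide (T.valN N x = 0)).length

lemma length_posList_filter (T : Tab) (p : ℕ → Bool) :
    ((posList T).filter p).length = ((Finset.Ico T.half T.n).filter fun r => p r = true).card := by
  rw [← List.toFinset_card_of_nodup (Cert.sortedLT_posList.nodup.filter _)]
  congr 1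
  ext r
  simp [Cert.mem_posList, posSet]

lemma fixExp_eq (T : Tab) (M : ℕ) (w : List ℕ) :
    fixExp T M w =
      ((Finset.Ico T.half T.n).filter fun r => rword T w r < T.half ∧ T.valN M r = 0).card := by
  rw [fixExp, fixList, cellList, List.filter_filter, length_posList_filter]
  refine congrArg Finset.card (Finset.filter_congr fun r _ => ?_)
  simp [and_comm]

lemma imgExp_eq (T : Tab) (N : ℕ) (d : List ℕ) :
    imgExp T N d = ((Finset.Ico T.half T.n).filter fun r =>
      rword T d r < T.half ∧ T.valN N (rword T d r) = 0).card := by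
  rw [imgExp, Tab.negImg, List.filter_map, List.length_map, List.filter_filter,
    length_posList_filter]
  refine congrArg Finset.card (Finset.filter_congr fun r _ => ?_)
  simp only [Function.comp_apply, T.rwordF_eq, Bool.and_eq_true, decide_eq_true_eq]
  constructor
  · exact fun ⟨a, b⟩ => ⟨Nat.le_of_ble_eq_true b, a⟩
  · exact fun ⟨a, b⟩ => ⟨b, Nat.ble_eq_true_of_le a⟩

lemma digits_inj {B : ℕ} (hB : 0 < B) : ∀ (n : ℕ) (a b : ℕ → ℕ),
    (∀ i < n, a i < B) → (∀ i < n, b i < B) →
    ∑ i ∈ Finset.range n, a i * B ^ i = ∑ i ∈ Finset.range n, b i * B ^ i → ∀ i < n, a i = b i := by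
  intro n
  induction n with
  | zero => intro a b _ _ _ i hi; omega
  | succ n ih =>
    intro a b ha hb e i hi
    rw [Finset.sum_range_succ', Finset.sum_range_succ'] at e
    simp only [pow_succ, pow_zero, mul_one, ← mul_assoc, ← Finset.sum_mul] at e
    have h0 : a 0 = b 0 := by
      have := congrArg (· % B) e
      simpa [Nat.add_mod, Nat.mul_mod_left, Nat.mod_eq_of_lt (ha 0 (Nat.succ_pos _)),
        Nat.mod_eq_of_lt (hb 0 (Nat.succ_pos _))] using this
    cases i with
    | zero => exact h0
    | succ i =>
      rw [h0] at e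
      exact ih (fun j => a (j + 1)) (fun j => b (j + 1)) (fun j hj => ha _ (by omega))
        (fun j hj => hb _ (by omega)) (Nat.eq_of_mul_eq_mul_right hB (Nat.add_right_cancel e))
        i (by omega)

lemma sum_map_pow (L : List ℕ) (q n : ℕ) (hL : ∀ e ∈ L, e < n) :
    (L.map fun e => q ^ e).sum = ∑ i ∈ Finset.range n, L.count i * q ^ i := by
  induction L with
  | nil => simp
  | cons a L ih =>
    rw [List.map_cons, List.sum_cons, ih fun e he => hL e (List.mem_cons_of_mem _ he)]
    simp only [List.count_cons, add_mul, Finset.sum_add_distrib, beq_iff_eq, ite_mul, one_mul,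
      zero_mul]
    rw [Finset.sum_ite_eq (Finset.range n) a, if_pos (Finset.mem_range.2 (hL a List.mem_cons_self)),
      add_comm]

namespace Cert

variable {D : ChevalleyDatum} {T : Tab} {C : Tab.Cover} (h : Cert D T C)
include h

variable {Lv : List Level} (hLv : T.chkLevels Lv = true)
include hLv

lemma fixExp_append {k : ℕ} (hk : k < T.l) {v : Level} (hv : Lv[k]? = some v) {d u : List ℕ}
    (hdm : d ∈ v.reps) (hu : u ∈ transversal Lv k) (M : ℕ) :
    fixExp T M (d ++ u) = fixExp T M u + imgExp T (T.actMask (d ++ u) M) d := by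
  obtain ⟨v', hv', -, hd, -⟩ := h.level_spec hLv hk
  rw [hv] at hv'; cases hv'
  obtain ⟨hdl, hdp⟩ := hd d hdm
  have hdok : WordOK T d := fun i hi => by have := hdl i hi; omega
  have hul := h.transversal_letters hLv k hk.le u hu
  have huok := h.transversal_ok hLv hk.le hu
  have htwo := h.two_mul_half
  have hok : WordOK T (d ++ u) := fun i hi => by
    rcases List.mem_append.1 hi with hi | hi
    exacts [hdok i hi, huok i hi]
  have hval : ∀ r < T.n, T.valN (T.actMask (d ++ u) M) (rword T (d ++ u) r) = 0 ↔
      T.valN M r = 0 := by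
    intro r hr
    rw [T.valN_eq_zero_iff, T.valN_eq_zero_iff, h.valZ_actMask hok M (h.rword_lt hok hr),
      h.rword_rev hok hr]
  classical
  rw [fixExp_eq, fixExp_eq, imgExp_eq]
  set ψ := T.actMask (d ++ u) M
  set A := (Finset.Ico T.half T.n).filter fun r => rword T u r < T.half ∧ T.valN M r = 0 with hA
  set B := (Finset.Ico T.half T.n).filter fun r =>
    rword T d r < T.half ∧ T.valN ψ (rword T d r) = 0 with hB
  have hur : WordOK T u.reverse := fun i hi => huok i (List.mem_reverse.1 hi)
  have hurl : LettersBelow k u.reverse := fun i hi => hul i (List.mem_reverse.1 hi)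
  have hAS : ∀ r ∈ A, Supp T k r := by
    intro r hr
    rw [hA, Finset.mem_filter, Finset.mem_Ico] at hr
    by_contra hns
    have := h.pos_rword_of_not_supp huok hul hr.1.1 hr.1.2 hns
    omega
  have hBS : ∀ r ∈ B, ¬ Supp T k r := by
    intro r hr hs
    rw [hB, Finset.mem_filter, Finset.mem_Ico] at hr
    have := hdp r hr.1.1 hr.1.2 hs
    omega
  have key : ((Finset.Ico T.half T.n).filter fun r =>
      rword T (d ++ u) r < T.half ∧ T.valN M r = 0) = A ∪ B.image (rword T u.reverse) := by
    ext r
    simp only [hA, hB, Finset.mem_filter, Finset.mem_union, Finset.mem_image, Finset.mem_Ico]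
    constructor
    · rintro ⟨⟨hr1, hr2⟩, hlt, h0⟩
      by_cases hu' : rword T u r < T.half
      · exact Or.inl ⟨⟨hr1, hr2⟩, hu', h0⟩
      · refine Or.inr ⟨rword T u r, ⟨⟨not_lt.1 hu', h.rword_lt huok hr2⟩, ?_, ?_⟩,
          h.rword_rev huok hr2⟩
        · rw [← rword_append]; exact hlt
        · rw [← rword_append]; exact (hval r hr2).2 h0
    · rintro (⟨⟨hr1, hr2⟩, hu', h0⟩ | ⟨s, ⟨⟨hs1, hs2⟩, hlt, h0⟩, rfl⟩)
      · refine ⟨⟨hr1, hr2⟩, ?_, h0⟩
        rw [rword_append]
        have hx := h.rword_lt huok hr2
        have hs : Supp T k (rword T u r) :=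
          (h.supp_rword huok hul hr2).2 (hAS r (by rw [hA, Finset.mem_filter, Finset.mem_Ico]
                                                   exact ⟨⟨hr1, hr2⟩, hu', h0⟩))
        have hpos := hdp (T.neg (rword T u r)) ((h.half_le_neg_iff hx).2 hu')
          (neg_lt (T := T) hx) ((h.supp_neg hx).2 hs)
        rw [h.rword_neg hdok hx] at hpos
        exact (h.half_le_neg_iff (h.rword_lt hdok hx)).1 hpos
      · have hns : ¬ Supp T k s := fun hs => absurd (hdp s hs1 hs2 hs) (not_le.2 hlt)
        refine ⟨⟨h.pos_rword_of_not_supp hur hurl hs1 hs2 hns, h.rword_lt hur hs2⟩,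
          by rw [rword_append, h.rword_reverse huok hs2]; exact hlt, ?_⟩
        have e := hval _ (h.rword_lt hur hs2)
        rw [rword_append, h.rword_reverse huok hs2] at e
        exact e.1 h0
  rw [key, Finset.card_union_of_disjoint, Finset.card_image_of_injOn]
  · intro a ha b hb e
    simp only [hB, Finset.coe_filter, Finset.mem_Ico, Set.mem_ofPred_eq] at ha hb
    rw [← h.rword_reverse huok ha.1.2, ← h.rword_reverse huok hb.1.2]
    exact congrArg (rword T u) e
  · rw [Finset.disjoint_left]
    intro r hrA hrB
    obtain ⟨s, hs, rfl⟩ := Finset.mem_image.1 hrB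
    have hs2 : s < T.n := (Finset.mem_Ico.1 (Finset.mem_filter.1 hs).1).2
    exact hBS s hs ((h.supp_rword (k := k) hur hurl hs2).1 (hAS _ hrA))

omit h hLv in
lemma sum_map_filter_flatMap {α : Type*} (L : List α) (R : α → List (List ℕ))
    (p : List ℕ → Bool) (f : List ℕ → ℕ) :
    (((L.flatMap R).filter p).map f).sum = (L.map fun a => (((R a).filter p).map f).sum).sum := by
  induction L with
  | nil => rfl
  | cons a L ih =>
    rw [List.flatMap_cons, List.filter_append, List.map_append, List.sum_append, ih, List.map_cons,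
      List.sum_cons]

/-- The partial sums of the recursion. -/
lemma sum_step {k : ℕ} (hk : k < T.l) {v : Level} (hv : Lv[k]? = some v) (M N q : ℕ) :
    (((transversal Lv (k + 1)).filter fun w => decide (T.actMask w M = N)).map
        fun w => q ^ fixExp T M w).sum =
      (v.reps.map fun d => q ^ imgExp T N d *
        (((transversal Lv k).filter fun u => decide (T.actMask u M = T.actMask d.reverse N)).map
          fun u => q ^ fixExp T M u).sum).sum := by
  obtain ⟨v', hv', -, hd, -⟩ := h.level_spec hLv hk
  rw [hv] at hv'; cases hv'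
  rw [show transversal Lv (k + 1) =
    v.reps.flatMap fun d => (transversal Lv k).map fun u => d ++ u by simp [transversal, hv],
    sum_map_filter_flatMap]
  refine congrArg List.sum (List.map_congr_left fun d hdm => ?_)
  have hdok : WordOK T d := fun i hi => by have := (hd d hdm).1 i hi; omega
  have hdr : WordOK T d.reverse := fun i hi => hdok i (List.mem_reverse.1 hi)
  rw [List.filter_map, List.map_map, ← List.sum_map_mul_left]
  have hp : ∀ u, ((fun w => decide (T.actMask w M = N)) ∘ fun u => d ++ u) u =
      decide (T.actMask u M = T.actMask d.reverse N) := by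
    intro u
    simp only [Function.comp_apply, T.actMask_append]
    refine decide_eq_decide.2 ⟨fun e => ?_, fun e => ?_⟩
    · rw [← e, h.actMask_reverse hdok]
    · rw [e]
      have := h.actMask_reverse hdr N
      rwa [List.reverse_reverse] at this
  rw [List.filter_congr fun u _ => hp u]
  refine congrArg List.sum (List.map_congr_left fun u hu => ?_)
  rw [List.mem_filter, decide_eq_true_eq] at hu
  have e : T.actMask (d ++ u) M = N := by
    rw [T.actMask_append, hu.2]
    have := h.actMask_reverse hdr N
    rwa [List.reverse_reverse] at this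
  rw [Function.comp_apply, h.fixExp_append hLv hk hv hdm hu.1, e, pow_add, mul_comm]

omit h in
lemma length_transversal : ∀ k ≤ T.l,
    (transversal Lv k).length = ((Lv.take k).map fun v => v.reps.length).prod := by
  intro k
  induction k with
  | zero => intro _; simp [transversal]
  | succ k ih =>
    intro hk
    have hlt : k < Lv.length := by rw [levels_length hLv]; omega
    simp only [transversal, List.getElem?_eq_getElem hlt, Option.map_some, Option.getD_some]
    rw [List.length_flatMap, List.take_add_one, List.getElem?_eq_getElem hlt, Option.toList_some,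
      List.map_append, List.prod_append, List.map_singleton, List.prod_singleton, ← ih (by omega)]
    simp [List.map_const', List.sum_replicate, mul_comm]

/-- The inversion polynomial of the stabilizer. -/
theorem sum_stab {tb st : List ℕ} (hV : T.chkVal tb = true) {M : ℕ} (hM : M < 2 ^ T.l)
    {ds : List (List (List ℕ × List ℕ))} {P : List (List ℕ)} {E : List ℕ}
    (hdp : T.chkDP Lv tb st M ds P E = true) (q : ℕ) :
    (((transversal Lv T.l).filter fun w => decide (T.actMask w M = M)).map
        fun w => q ^ fixExp T M w).sum = ∑ i ∈ Finset.range E.length, E.getD i 0 * q ^ i := by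
  simp only [Tab.chkDP, Bool.and_eq_true, decide_eq_true_eq, List.all_eq_true] at hdp
  obtain ⟨hst, ⟨-, hl⟩, hneg, hP0, hPs, hEl, hEb, hcnt, hfin⟩ := hdp
  have hlen := levels_length hLv
  have hstep : ∀ k < T.l, ∀ N < 2 ^ T.l,
      (∀ N' < 2 ^ T.l, (P.getD k []).getD N' 0 =
        (((transversal Lv k).filter fun u => decide (T.actMask u M = N')).map
          fun u => (2 ^ 32) ^ fixExp T M u).sum) →
      Tab.stepF st (P.getD k []) (ds.getD k []) N =
        (((transversal Lv (k + 1)).filter fun w => decide (T.actMask w M = N)).map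
          fun w => (2 ^ 32) ^ fixExp T M w).sum := by
    intro k hk N hN hP
    obtain ⟨v, hv, -, hd, -⟩ := h.level_spec hLv hk
    have e1 := of_decide_eq_true (allBelow_eq_true hneg k hk)
    have hget : Lv.getD k ⟨[], [], []⟩ = v := by
      rw [List.getD_eq_getElem?_getD, hv, Option.getD_some]
    rw [hget] at e1
    rw [h.sum_step hLv hk hv, e1]
    have key : ∀ R : List (List ℕ), (∀ d ∈ R, WordOK T d) →
        Tab.stepF st (P.getD k [])
            (R.map fun d => (d.reverse, (T.negImg d).map fun x => tb.getD x 0)) N =
          (R.map fun d => (2 ^ 32) ^ imgExp T N d *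
            (((transversal Lv k).filter fun u =>
              decide (T.actMask u M = T.actMask d.reverse N)).map
                fun u => (2 ^ 32) ^ fixExp T M u).sum).sum := by
      intro R
      induction R with
      | nil => intro _; rfl
      | cons d R ih =>
        intro hR
        have hdok := hR d List.mem_cons_self
        have hdr : WordOK T d.reverse := fun i hi => hdok i (List.mem_reverse.1 hi)
        show Nat.add (Nat.shiftLeft ((P.getD k []).getD (Tab.actF st d.reverse N) 0)
          (Nat.mul 32 (Tab.cntF ((T.negImg d).map fun x => tb.getD x 0) N)))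
          (Tab.stepF st (P.getD k [])
            (R.map fun d => (d.reverse, (T.negImg d).map fun x => tb.getD x 0)) N) = _
        rw [ih fun x hx => hR x (List.mem_cons_of_mem _ hx), List.map_cons, List.sum_cons,
          T.actF_eq hV hst (fun i hi => h.simple_lt hi) hdr hN, hP _ (T.actMask_lt hdr hN),
          T.cntF_map hV hN _ (T.rwordF_negImg_lt fun r hr => h.rword_lt hdok hr)]
        simp only [Nat.add_eq, Nat.mul_eq]
        rw [show ∀ a b : ℕ, Nat.shiftLeft a b = a * 2 ^ b from fun a b => Nat.shiftLeft_eq a b,
          pow_mul, mul_comm]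
        rfl
    refine key v.reps fun d hdm i hi => ?_
    have := (hd d hdm).1 i hi
    omega
  have hall : ∀ k < T.l, ∀ N < 2 ^ T.l, (P.getD k []).getD N 0 =
      (((transversal Lv k).filter fun u => decide (T.actMask u M = N)).map
        fun u => (2 ^ 32) ^ fixExp T M u).sum := by
    intro k
    induction k with
    | zero =>
      intro _ N hN
      rw [Nat.eq_of_beq_eq_true (allBelow_eq_true hP0 N hN)]
      have e0 : fixExp T M [] = 0 := by
        rw [fixExp_eq, Finset.card_eq_zero, Finset.filter_eq_empty_iff]
        intro r hr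
        rw [Finset.mem_Ico] at hr
        simp only [rword, List.foldr_nil]
        omega
      have ea : T.actMask [] M = M := rfl
      by_cases e : N = M
      · subst e
        simp [transversal, ea, e0, Nat.beq_refl]
      · cases hb : Nat.beq N M
        · simp [transversal, ea, Ne.symm e]
        · exact absurd (Nat.eq_of_beq_eq_true hb) e
    | succ k ih =>
      intro hk N hN
      rw [Nat.eq_of_beq_eq_true (allBelow_eq_true (allBelow_eq_true hPs k (by omega)) N hN)]
      exact hstep k (by omega) N hN (ih (by omega))
  have hB := hstep (T.l - 1) (by omega) M hM (hall _ (by omega))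
  rw [show T.l - 1 + 1 = T.l by omega, Nat.eq_of_beq_eq_true hfin, Tab.sumBelow_eq] at hB
  simp only [Nat.mul_eq, Nat.pow_eq] at hB
  set L := (((transversal Lv T.l).filter fun w => decide (T.actMask w M = M)).map
    (fixExp T M)) with hL
  have hex : ∀ e ∈ L, e < E.length := by
    intro e he
    obtain ⟨w, -, rfl⟩ := List.mem_map.1 he
    refine lt_of_le_of_lt ?_ hEl
    rw [fixExp_eq]
    refine (Finset.card_filter_le _ _).trans ?_
    have := h.two_mul_half
    rw [Nat.card_Ico]
    omega
  have hcount : ∀ i < E.length, L.count i < 2 ^ 32 := by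
    intro i _
    refine lt_of_le_of_lt (List.count_le_length.trans ?_) (Nat.le_of_ble_eq_true hcnt)
    rw [hL, List.length_map]
    refine (List.length_filter_le _ _).trans (le_of_eq ?_)
    rw [length_transversal hLv T.l le_rfl, ← hlen, List.take_length]
  have hcoef : ∀ i < E.length, E.getD i 0 < 2 ^ 32 := by
    intro i hi
    rw [List.getD_eq_getElem _ _ hi]
    exact Nat.le_of_ble_eq_true (hEb _ (List.getElem_mem hi))
  have e2 : ∀ q : ℕ, (((transversal Lv T.l).filter fun w => decide (T.actMask w M = M)).map
      fun w => q ^ fixExp T M w).sum = ∑ i ∈ Finset.range E.length, L.count i * q ^ i := by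
    intro q
    rw [← sum_map_pow L q E.length hex, hL, List.map_map]
    rfl
  rw [e2] at hB
  have heq := digits_inj (Nat.two_pow_pos 32) E.length _ _ hcoef hcount hB
  rw [e2]
  exact Finset.sum_congr rfl fun i hi => by rw [heq i (Finset.mem_range.1 hi)]

end Cert

end CfsgLib.Chev
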