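import Cfsg.Agent.Lib.Chev.SL2
import Cfsg.Agent.Lib.Chev.RootCentralizer
import Cfsg.Agent.Lib.Chev.OddInvol.Torus

/-!
Monomial involutions in odd characteristic are conjugate to diagonal ones when the Cartan matrix
is invertible modulo 2.
-/

set_option autoImplicit false

namespace CfsgLib.Chev

open Cfsg.Lie Matrix
open scoped MatrixGroups

namespace Tab

variable (T : Tab)

/-- Two simple roots with even pairings both ways are orthogonal and their `n` commute. -/
def chkOrth : Bool :=
  (List.range T.l).all fun i => (List.range T.l).all fun j =>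
    decide (i = j ∨ T.car i (T.simple j) % 2 ≠ 0 ∨ T.car j (T.simple i) % 2 ≠ 0 ∨
      (T.car i (T.simple j) = 0 ∧ T.refl i (T.simple j) = T.simple j ∧
        T.eta i (T.simple j) = 1))

lemma chkOrth_spec (h : T.chkOrth = true) {i j : ℕ} (hi : i < T.l) (hj : j < T.l) (hne : i ≠ j)
    (h1 : Even (T.car i (T.simple j))) (h2 : Even (T.car j (T.simple i))) :
    T.car i (T.simple j) = 0 ∧ T.refl i (T.simple j) = T.simple j ∧
      T.eta i (T.simple j) = 1 := by
  simp only [chkOrth, List.all_eq_true, List.mem_range, decide_eq_true_eq] at h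
  rcases h i hi j hj with a | a | a | a
  · exact absurd a hne
  · exact absurd (Int.even_iff.1 h1) a
  · exact absurd (Int.even_iff.1 h2) a
  · exact a

end Tab

/-- The map `[[a, b], [c, d]] ↦ [[d, c/μ], [μ b, a]]`. -/
noncomputable def sigSL {F : Type*} [Field F] {μ : F} (hμ : μ ≠ 0) : SL(2, F) →* SL(2, F) where
  toFun g := ⟨!![g.1 1 1, μ⁻¹ * g.1 1 0; μ * g.1 0 1, g.1 0 0], by
    have hd := SL2Pair.det_eq g
    simp [Matrix.det_fin_two]
    field_simp
    linear_combination hd⟩
  map_one' := by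
    refine Subtype.ext ?_
    ext i j
    fin_cases i <;> fin_cases j <;> simp [SL2Pair.val_one]
  map_mul' a b := by
    refine Subtype.ext ?_
    show _ = !![a.1 1 1, μ⁻¹ * a.1 1 0; μ * a.1 0 1, a.1 0 0] *
      !![b.1 1 1, μ⁻¹ * b.1 1 0; μ * b.1 0 1, b.1 0 0]
    ext i j
    fin_cases i <;> fin_cases j <;>
      simp [Matrix.SpecialLinearGroup.coe_mul, Matrix.mul_apply, Fin.sum_univ_two] <;>
      field_simp <;> ring

/-- Two homomorphisms from `SL₂` agreeing on upper and lower unipotents are equal. -/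
lemma sl2_hom_ext {F : Type*} [Field F] {G : Type*} [Group G] {f g : SL(2, F) →* G}
    (h1 : ∀ t, f (SL2Pair.E t) = g (SL2Pair.E t)) (h2 : ∀ t, f (SL2Pair.L t) = g (SL2Pair.L t))
    (x : SL(2, F)) : f x = g x := by
  classical
  induction SL2Pair.eq_word x using Submonoid.closure_induction with
  | mem x hx =>
    rcases hx with ⟨s, rfl⟩ | rfl
    · exact h1 s
    · have e : (SL2Pair.W : SL(2, F)) = SL2Pair.E 1 * SL2Pair.L (-1) * SL2Pair.E 1 := by
        refine Subtype.ext ?_
        ext i j
        fin_cases i <;> fin_cases j <;>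
          simp [SL2Pair.val_mul, SL2Pair.E_val, SL2Pair.L_val, SL2Pair.W_val, Matrix.mul_apply,
            Fin.sum_univ_two]
      rw [e, map_mul, map_mul, map_mul, map_mul, h1, h2]
  | one => rw [map_one, map_one]
  | mul a b _ _ ha hb => rw [map_mul, map_mul, ha, hb]

/-- A power with a sum exponent. -/
lemma prod_zpow_eq_zpow_sum {F : Type*} [Field F] {ι : Type*} {s : Finset ι} {f : ι → ℤ} {a : F}
    (ha : a ≠ 0) : ∏ j ∈ s, a ^ f j = a ^ ∑ j ∈ s, f j := by
  induction s using Finset.cons_induction with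
  | empty => simp
  | cons b S hb ih => rw [Finset.prod_cons, Finset.sum_cons, ih, zpow_add₀ ha]

/-- A product of nonsquares. -/
lemma isSquare_zpow_iff_of_nonsquare {F : Type*} [Field F] [Fintype F] (h2 : ringChar F ≠ 2)
    {ι : Type*} (s : Finset ι) (x : ι → F) (c : ι → ℤ) (hx0 : ∀ j ∈ s, x j ≠ 0)
    (hx : ∀ j ∈ s, ¬ IsSquare (x j)) :
    IsSquare (∏ j ∈ s, x j ^ c j) ↔ Even (∑ j ∈ s, c j) := by
  classical
  induction s using Finset.cons_induction with
  | empty => simp
  | cons a S ha ih =>
    have ih' := ih (fun j hj => hx0 j (Finset.mem_cons.2 (Or.inr hj)))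
      (fun j hj => hx j (Finset.mem_cons.2 (Or.inr hj)))
    have ha0 := hx0 a (Finset.mem_cons_self _ _)
    have han := hx a (Finset.mem_cons_self _ _)
    have hP : (∏ j ∈ S, x j ^ c j) ≠ 0 :=
      Finset.prod_ne_zero_iff.2 fun j hj => zpow_ne_zero _ (hx0 j (Finset.mem_cons.2 (Or.inr hj)))
    have hsq : ∀ {y : F}, y ≠ 0 → (IsSquare (x a * y) ↔ ¬ IsSquare y) := by
      intro y hy
      constructor
      · intro hm hy'
        exact han (by simpa [mul_div_assoc, div_self hy] using hm.div hy')
      · intro hy'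
        rw [FiniteField.isSquare_iff h2 ha0] at han
        rw [FiniteField.isSquare_iff h2 hy] at hy'
        rw [FiniteField.isSquare_iff h2 (mul_ne_zero ha0 hy), mul_pow,
          (FiniteField.pow_dichotomy h2 ha0).resolve_left han,
          (FiniteField.pow_dichotomy h2 hy).resolve_left hy']
        norm_num
    rw [Finset.prod_cons, Finset.sum_cons, Int.even_add]
    rcases Int.even_or_odd (c a) with hev | hodd
    · obtain ⟨k, hk⟩ := hev
      have : IsSquare (x a ^ c a) := ⟨x a ^ k, by rw [← zpow_add₀ ha0, hk]⟩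
      rw [← ih']
      simp only [show Even (c a) from ⟨k, hk⟩, true_iff]
      constructor
      · intro hm
        have := hm.div this
        rwa [mul_div_cancel_left₀ _ (zpow_ne_zero _ ha0)] at this
      · exact fun hm => this.mul hm
    · obtain ⟨k, hk⟩ := hodd
      have e : x a ^ c a * ∏ j ∈ S, x j ^ c j =
          (x a ^ k * x a ^ k) * (x a * ∏ j ∈ S, x j ^ c j) := by
        rw [hk, zpow_add₀ ha0, show 2 * k = k + k by ring, zpow_add₀ ha0, zpow_one]; ring
      rw [← ih', e]
      have hnev : ¬ Even (c a) := Int.not_even_iff_odd.2 ⟨k, hk⟩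
      simp only [hnev, false_iff]
      rw [← hsq hP]
      constructor
      · intro hm
        have := hm.div (IsSquare.mul_self (x a ^ k))
        rwa [mul_div_cancel_left₀ _ (mul_ne_zero (zpow_ne_zero _ ha0) (zpow_ne_zero _ ha0))] at this
      · exact fun hm => (IsSquare.mul_self _).mul hm

namespace Cert

variable {D : ChevalleyDatum} {T : Tab} {C : Tab.Cover} (h : Cert D T C) {F : Type*} [Field F]
include h

/-- The word with action `w` conjugated by a simple reflection has fewer inversions. -/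
lemma negCount_conj_lt {w : List ℕ} (hw : WordOK T w)
    (hinv : ∀ r < T.n, rword T w (rword T w r) = r) {i : ℕ} (hi : i < T.l)
    (hneg : rword T w (T.simple i) < T.half)
    (hne : rword T w (T.simple i) ≠ T.neg (T.simple i)) :
    T.negCount ([i] ++ w ++ [i]) < T.negCount w := by
  classical
  have hs := h.simple_spec hi
  have hp := h.simple_lt hi
  rw [Tab.negCount_eq, Tab.negCount_eq]
  set A := (Finset.Ico T.half T.n).filter fun r => rword T w r < T.half with hA
  have hmem : T.simple i ∈ A := Finset.mem_filter.2 ⟨Finset.mem_Ico.2 ⟨hs.1, hp⟩, hneg⟩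
  refine lt_of_le_of_lt ?_ (Finset.card_erase_lt_of_mem hmem)
  refine Finset.card_le_card_of_injOn (T.refl i) (fun r hr => ?_) ?_
  · rw [Finset.mem_coe, Finset.mem_filter, Finset.mem_Ico] at hr
    obtain ⟨⟨hr1, hr2⟩, hr3⟩ := hr
    rw [rword_append, rword_append] at hr3
    replace hr3 : T.refl i (rword T w (T.refl i r)) < T.half := hr3
    have hne' : r ≠ T.simple i := by
      rintro rfl
      rw [h.refl_simple hi, h.rword_neg hw hp] at hr3
      have hx := h.rword_lt hw hp
      have h1 : T.half ≤ T.neg (rword T w (T.simple i)) := (h.half_le_neg_iff hx).2 hneg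
      have h2 : T.neg (rword T w (T.simple i)) ≠ T.simple i := fun e =>
        hne (by rw [← neg_neg (T := T) hx, e])
      have := (h.refl_spec hi (neg_lt (T := T) hx)).2.2.2.1 h1 h2
      omega
    have hpos := (h.refl_spec hi hr2).2.2.2.1 hr1 hne'
    have hlt := h.refl_lt hi hr2
    have hrne : T.refl i r ≠ T.simple i := by
      intro e
      have e' := congrArg (T.refl i) e
      rw [h.refl_refl hi hr2, h.refl_simple hi] at e'
      have := (h.half_le_neg_iff hp).1 (e' ▸ hr1)
      omega
    rw [Finset.mem_coe, Finset.mem_erase]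
    refine ⟨hrne, Finset.mem_filter.2 ⟨Finset.mem_Ico.2 ⟨hpos, hlt⟩, ?_⟩⟩
    by_contra hx
    rw [not_lt] at hx
    have hx2 := h.rword_lt hw hlt
    by_cases e : rword T w (T.refl i r) = T.simple i
    · have e' := congrArg (rword T w) e
      rw [hinv _ hlt] at e'
      omega
    · have := (h.refl_spec hi hx2).2.2.2.1 hx e
      omega
  · intro a ha b hb e
    have ha' := (Finset.mem_Ico.1 (Finset.mem_filter.1 ha).1).2
    have hb' := (Finset.mem_Ico.1 (Finset.mem_filter.1 hb).1).2
    rw [← h.refl_refl hi ha', e, h.refl_refl hi hb']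

/-- Multiplying by the reflection of an inverted simple root removes an inversion. -/
lemma negCount_cons_lt {w : List ℕ} (hw : WordOK T w)
    (hinv : ∀ r < T.n, rword T w (rword T w r) = r) {i : ℕ} (hi : i < T.l)
    (heq : rword T w (T.simple i) = T.neg (T.simple i)) :
    T.negCount (i :: w) < T.negCount w := by
  classical
  have hs := h.simple_spec hi
  have hp := h.simple_lt hi
  have hnp : T.neg (T.simple i) < T.half := by
    by_contra hh
    have := (h.half_le_neg_iff hp).1 (not_lt.1 hh)
    omega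
  rw [Tab.negCount_eq, Tab.negCount_eq]
  set A := (Finset.Ico T.half T.n).filter fun r => rword T w r < T.half with hA
  have hmem : T.simple i ∈ A :=
    Finset.mem_filter.2 ⟨Finset.mem_Ico.2 ⟨hs.1, hp⟩, by rw [heq]; exact hnp⟩
  refine lt_of_le_of_lt ?_ (Finset.card_erase_lt_of_mem hmem)
  refine Finset.card_le_card fun r hr => ?_
  rw [Finset.mem_filter, Finset.mem_Ico] at hr
  obtain ⟨⟨hr1, hr2⟩, hr3⟩ := hr
  rw [rword_cons] at hr3
  have hne' : r ≠ T.simple i := by
    rintro rfl
    rw [heq, (h.refl_spec hi hp).2.2.1, h.refl_simple hi, neg_neg (T := T) hp] at hr3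
    omega
  refine Finset.mem_erase.2 ⟨hne', Finset.mem_filter.2 ⟨Finset.mem_Ico.2 ⟨hr1, hr2⟩, ?_⟩⟩
  by_contra hx
  rw [not_lt] at hx
  by_cases e : rword T w r = T.simple i
  · have e' := congrArg (rword T w) e
    rw [hinv _ hr2, heq] at e'
    omega
  · have := (h.refl_spec hi (h.rword_lt hw hr2)).2.2.2.1 hx e
    omega

/-- The action of a monomial involution is an involution. -/
lemma rword_involutive {w : List ℕ} (hw : WordOK T w) {t : GL D.Idx F}
    (ht : t ∈ D.diagonalSubgroup F) (hsq : t * nW D F w * (t * nW D F w) = 1) :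
    ∀ r < T.n, rword T w (rword T w r) = r := by
  intro r hr
  have hr' := h.rword_lt hw hr
  have h1 : Maps D (t * nW D F w) r (rword T w r) :=
    Maps_mul (h.Maps_nW hw hr) (h.Maps_diagonal ht hr')
  have h2 : Maps D (t * nW D F w) (rword T w r) (rword T w (rword T w r)) :=
    Maps_mul (h.Maps_nW hw hr') (h.Maps_diagonal ht (h.rword_lt hw hr'))
  have h3 := Maps_mul h1 h2
  rw [hsq] at h3
  exact h.Maps_unique (h.rword_lt hw hr') hr h3 ⟨1, one_ne_zero, fun a => by simp⟩

/-- Conjugation by a monomial involution on the `SL₂` of an inverted simple root. -/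
lemma conj_sl2 {i : ℕ} (hi : i < T.l) {m : GL D.Idx F} (hsq : m * m = 1) {μ : F} (hμ : μ ≠ 0)
    (hm : ∀ s : F, m * X D (T.simple i) s * m⁻¹ = X D (T.neg (T.simple i)) (μ * s)) :
    ∃ φ : SL(2, F) →* GL D.Idx F, (∀ g, φ g ∈ D.group F) ∧
      (∀ g, φ g * m * (φ g)⁻¹ = φ (g * (sigSL hμ g)⁻¹) * m) ∧
      (∀ (g : SL(2, F)) (A : F), g.1 = !![A, 0; 0, A⁻¹] → A ≠ 0 →
        φ g = hU D (T.simple i) A) ∧
      (∀ (g : SL(2, F)) (x : F), g.1 = !![0, x; -x⁻¹, 0] → x ≠ 0 →
        φ g = nU D (T.simple i) x) := by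
  classical
  have hp := h.simple_lt hi
  obtain ⟨φ, hmem, hu, hv⟩ := h.exists_sl2_hom (F := F) hp
  have hm' : ∀ s : F, m * X D (T.neg (T.simple i)) s * m⁻¹ = X D (T.simple i) (μ⁻¹ * s) := by
    intro s
    have e := hm (μ⁻¹ * s)
    rw [mul_inv_cancel_left₀ hμ] at e
    rw [← e]
    have hmi : m⁻¹ = m := inv_eq_of_mul_eq_one_right hsq
    rw [hmi, show m * (m * X D (T.simple i) (μ⁻¹ * s) * m) * m =
      m * m * X D (T.simple i) (μ⁻¹ * s) * (m * m) by group, hsq]
    group
  have hτ : ∀ g : SL(2, F), m * φ g * m⁻¹ = φ (sigSL hμ g) := by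
    intro g
    show ((MulAut.conj m).toMonoidHom.comp φ) g = (φ.comp (sigSL hμ)) g
    refine sl2_hom_ext (fun s => ?_) (fun s => ?_) g
    · show m * φ (SL2Pair.E s) * m⁻¹ = φ (sigSL hμ (SL2Pair.E s))
      rw [hu _ s rfl, hm, hv _ (μ * s)]
      show !![_, _; _, _] = _
      simp [SL2Pair.E_val]
    · show m * φ (SL2Pair.L s) * m⁻¹ = φ (sigSL hμ (SL2Pair.L s))
      rw [hv _ s rfl, hm', hu _ (μ⁻¹ * s)]
      show !![_, _; _, _] = _
      simp [SL2Pair.L_val]
  refine ⟨φ, fun g => ?_, fun g => ?_, fun g A hg hA => ?_, fun g x hg hx => ?_⟩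
  · have hle : D.rootSubgroup F (T.simple i) ⊔ D.rootSubgroup F (T.neg (T.simple i)) ≤
        D.group F := by
      rw [h.rootSubgroup_eq, h.rootSubgroup_eq]
      exact sup_le (h.gen_le_group fun r hr => by rw [Set.mem_singleton_iff.1 hr]; exact hp)
        (h.gen_le_group fun r hr => by
          rw [Set.mem_singleton_iff.1 hr]; exact neg_lt (T := T) hp)
    exact hle (hmem g)
  · rw [map_mul, map_inv, ← hτ]; group
  · have e : g = SL2Pair.E A * SL2Pair.L (-A⁻¹) * SL2Pair.E A *
        (SL2Pair.E (-1) * SL2Pair.L 1 * SL2Pair.E (-1)) := by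
      refine Subtype.ext ?_
      rw [hg]
      ext a b
      fin_cases a <;> fin_cases b <;>
        simp [SL2Pair.val_mul, SL2Pair.E_val, SL2Pair.L_val, Matrix.mul_apply, Fin.sum_univ_two,
          hA]
    rw [e, map_mul, map_mul, map_mul, map_mul, map_mul, hu _ A rfl, hv _ (-A⁻¹) rfl,
      hu _ (-1) rfl, hv _ 1 rfl]
    simp [hU, nU, h.neg_eq hp]
  · have e : g = SL2Pair.E x * SL2Pair.L (-x⁻¹) * SL2Pair.E x := by
      refine Subtype.ext ?_
      rw [hg]
      ext a b
      fin_cases a <;> fin_cases b <;>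
        simp [SL2Pair.val_mul, SL2Pair.E_val, SL2Pair.L_val, Matrix.mul_apply, Fin.sum_univ_two,
          hx]
    rw [e, map_mul, map_mul, hu _ x rfl, hv _ (-x⁻¹) rfl]
    simp [nU, h.neg_eq hp]

/-- The torus can be moved along an inverted simple root. -/
lemma exists_conj_scale [Fintype F] (hF : Odd (Fintype.card F)) {i : ℕ} (hi : i < T.l)
    {m : GL D.Idx F} (hsq : m * m = 1) {μ : F} (hμ : μ ≠ 0)
    (hm : ∀ s : F, m * X D (T.simple i) s * m⁻¹ = X D (T.neg (T.simple i)) (μ * s))
    {A : F} (hA : A ≠ 0) :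
    ∃ x ∈ D.group F, x * m * x⁻¹ = hU D (T.simple i) A * m := by
  classical
  obtain ⟨φ, hmem, hconj, hdiag, -⟩ := h.conj_sl2 hi hsq hμ hm
  obtain ⟨a, b, e⟩ := FiniteField.exists_root_sum_quadratic (R := F)
    (f := Polynomial.C 1 * Polynomial.X ^ 2 + Polynomial.C 0 * Polynomial.X + Polynomial.C (-A))
    (g := Polynomial.C (-μ) * Polynomial.X ^ 2 + Polynomial.C 0 * Polynomial.X + Polynomial.C 0)
    (Polynomial.degree_quadratic one_ne_zero) (Polynomial.degree_quadratic (neg_ne_zero.2 hμ))
    (Nat.odd_iff.1 hF)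
  have e' : a ^ 2 - μ * b ^ 2 = A := by simp at e; linear_combination e
  let g : SL(2, F) := ⟨!![a, b; μ * b / A, a / A], by
    simp [Matrix.det_fin_two]
    field_simp
    linear_combination e'⟩
  refine ⟨φ g, hmem g, ?_⟩
  rw [hconj, hdiag _ A ?_ hA]
  rw [show (g * (sigSL hμ g)⁻¹).1 =
      !![a, b; μ * b / A, a / A] * !![a / A, μ⁻¹ * (μ * b / A); μ * b, a].adjugate from ?_]
  · ext r c
    fin_cases r <;> fin_cases c <;>
      simp [Matrix.mul_apply, Fin.sum_univ_two, Matrix.adjugate_fin_two] <;> field_simp <;>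
      first
        | ring1
        | linear_combination e'
        | linear_combination -e'
  · rw [Matrix.SpecialLinearGroup.coe_mul, Matrix.SpecialLinearGroup.coe_inv]
    rfl

/-- An inverted simple root with a square parameter. -/
lemma exists_conj_split {i : ℕ} (hi : i < T.l) {m : GL D.Idx F} (h2 : (2 : F) ≠ 0)
    (hsq : m * m = 1) {μ : F} (hμ : μ ≠ 0) (hsqr : IsSquare μ)
    (hm : ∀ s : F, m * X D (T.simple i) s * m⁻¹ = X D (T.neg (T.simple i)) (μ * s)) :
    ∃ x ∈ D.group F, ∃ z ≠ (0 : F), x * m * x⁻¹ = nU D (T.simple i) z * m := by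
  classical
  obtain ⟨φ, hmem, hconj, -, hanti⟩ := h.conj_sl2 hi hsq hμ hm
  obtain ⟨ν, rfl⟩ := hsqr
  have hν : ν ≠ 0 := fun e => hμ (by rw [e, mul_zero])
  let g : SL(2, F) := ⟨!![ν, 1; -(1 / 2), 1 / (2 * ν)], by
    simp [Matrix.det_fin_two]
    field_simp
    ring⟩
  refine ⟨φ g, hmem g, ν⁻¹, inv_ne_zero hν, ?_⟩
  rw [hconj, hanti _ ν⁻¹ ?_ (inv_ne_zero hν)]
  rw [show (g * (sigSL hμ g)⁻¹).1 = !![ν, 1; -(1 / 2), 1 / (2 * ν)] *
      !![1 / (2 * ν), (ν * ν)⁻¹ * (-(1 / 2)); ν * ν * 1, ν].adjugate from ?_]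
  · ext r c
    fin_cases r <;> fin_cases c <;>
      simp [Matrix.mul_apply, Fin.sum_univ_two, Matrix.adjugate_fin_two] <;> field_simp <;> ring
  · rw [Matrix.SpecialLinearGroup.coe_mul, Matrix.SpecialLinearGroup.coe_inv]
    rfl

/-- A simple reflection fixes an orthogonal simple root element. -/
lemma nS_conj_X_orth (hO : T.chkOrth = true) {a j : ℕ} (ha : a < T.l) (hj : j < T.l) (hne : a ≠ j)
    (h1 : Even (T.car a (T.simple j))) (h2 : Even (T.car j (T.simple a))) (s : F) :
    nS D F a * X D (T.simple j) s * (nS D F a)⁻¹ = X D (T.simple j) s ∧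
      nS D F a * X D (T.neg (T.simple j)) s * (nS D F a)⁻¹ = X D (T.neg (T.simple j)) s := by
  obtain ⟨-, e1, e2⟩ := T.chkOrth_spec hO ha hj hne h1 h2
  have hp := h.simple_lt hj
  constructor
  · rw [h.nS_conj_X ha hp, e1, e2]; simp
  · rw [h.nS_conj_X ha (neg_lt (T := T) hp), (h.refl_spec ha hp).2.2.1, e1,
      (h.refl_spec ha hp).2.2.2.2.1, e2]
    simp

/-- A set of pairwise orthogonal simple roots. -/
lemma orth_word (hO : T.chkOrth = true) : ∀ {v : List ℕ}, WordOK T v → v.Nodup →
    (∀ a ∈ v, ∀ b ∈ v, Even (T.car a (T.simple b))) →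
    (∀ a ∈ v, ∀ r < T.n, T.car a r = 0 → rword T [a] r = r) ∧
      (∀ j < T.l, (∀ a ∈ v, a ≠ j ∧ Even (T.car a (T.simple j)) ∧ Even (T.car j (T.simple a))) →
        rword T v (T.simple j) = T.simple j ∧
        ∀ s : F, nW D F v * X D (T.simple j) s * (nW D F v)⁻¹ = X D (T.simple j) s ∧
          nW D F v * X D (T.neg (T.simple j)) s * (nW D F v)⁻¹ = X D (T.neg (T.simple j)) s) ∧
      (∀ j ∈ v, rword T v (T.simple j) = T.neg (T.simple j) ∧
        ∀ s : F, nW D F v * X D (T.simple j) s * (nW D F v)⁻¹ = X D (T.neg (T.simple j)) (-s)) ∧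
      ((nW D F v * nW D F v : GL D.Idx F) : Matrix D.Idx D.Idx F) =
        torus D (fun r => (-1 : F) ^ (v.map fun a => T.car a r).sum) ∧
      ∀ c : ℕ → F, (∀ a < T.l, c a ≠ 0) → ∀ r < T.n,
        charOf T c (rword T v r) =
          charOf T c r * (v.map fun a => charOf T c (T.simple a) ^ (-T.car a r)).prod := by
  intro v
  induction v with
  | nil =>
    intro _ _ _
    refine ⟨fun a ha => absurd ha List.not_mem_nil, fun j _ _ => ⟨rfl, fun s => by simp [nW]⟩,
      fun j hj => absurd hj List.not_mem_nil, ?_, fun c _ r _ => by simp [rword]⟩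
    simp [nW, torus_one]
  | cons a v ih =>
    intro hw hnd hev
    have ha := hw.head
    have hwv := hw.tail
    rw [List.nodup_cons] at hnd
    obtain ⟨-, hfix, hin, hsqv, hchar⟩ := ih hwv hnd.2 fun x hx y hy =>
      hev x (List.mem_cons_of_mem _ hx) y (List.mem_cons_of_mem _ hy)
    have horth : ∀ b ∈ v, a ≠ b ∧ Even (T.car a (T.simple b)) ∧ Even (T.car b (T.simple a)) :=
      fun b hb => ⟨fun e => hnd.1 (e ▸ hb), hev a List.mem_cons_self b (List.mem_cons_of_mem _ hb),
        hev b (List.mem_cons_of_mem _ hb) a List.mem_cons_self⟩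
    have hfa := hfix a ha fun b hb => ⟨(horth b hb).1.symm, (horth b hb).2.2, (horth b hb).2.1⟩
    refine ⟨fun x hx r hr e => ?_, fun j hj hjv => ?_, fun j hj => ?_, ?_, fun c hc r hr => ?_⟩
    · show T.refl x r = r
      exact h.refl_eq_self (hw x hx) hr e
    · obtain ⟨hne, he1, he2⟩ := hjv a List.mem_cons_self
      obtain ⟨e1, e2⟩ := hfix j hj fun b hb => hjv b (List.mem_cons_of_mem _ hb)
      obtain ⟨-, e3, -⟩ := T.chkOrth_spec hO ha hj hne he1 he2
      refine ⟨by rw [rword_cons, e1, e3], fun s => ?_⟩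
      constructor
      · rw [nW_cons, show nS D F a * nW D F v * X D (T.simple j) s * (nS D F a * nW D F v)⁻¹ =
          nS D F a * (nW D F v * X D (T.simple j) s * (nW D F v)⁻¹) * (nS D F a)⁻¹ by group,
          (e2 s).1, (h.nS_conj_X_orth hO ha hj hne he1 he2 s).1]
      · rw [nW_cons, show nS D F a * nW D F v * X D (T.neg (T.simple j)) s *
            (nS D F a * nW D F v)⁻¹ =
          nS D F a * (nW D F v * X D (T.neg (T.simple j)) s * (nW D F v)⁻¹) * (nS D F a)⁻¹ by
            group,
          (e2 s).2, (h.nS_conj_X_orth hO ha hj hne he1 he2 s).2]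
    · rcases List.mem_cons.1 hj with rfl | hjv
      · refine ⟨by rw [rword_cons, hfa.1, h.refl_simple ha], fun s => ?_⟩
        rw [nW_cons, show nS D F j * nW D F v * X D (T.simple j) s * (nS D F j * nW D F v)⁻¹ =
          nS D F j * (nW D F v * X D (T.simple j) s * (nW D F v)⁻¹) * (nS D F j)⁻¹ by group,
          (hfa.2 s).1, h.nS_conj_X ha (h.simple_lt ha), h.refl_simple ha,
          (h.refl_spec ha (h.simple_lt ha)).2.2.2.2.2.2.1 rfl]
        simp
      · obtain ⟨e1, e2⟩ := hin j hjv
        obtain ⟨hne, he1, he2⟩ := horth j hjv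
        have hjl := hwv j hjv
        obtain ⟨-, e3, -⟩ := T.chkOrth_spec hO ha hjl hne he1 he2
        refine ⟨by rw [rword_cons, e1, (h.refl_spec ha (h.simple_lt hjl)).2.2.1, e3], fun s => ?_⟩
        rw [nW_cons, show nS D F a * nW D F v * X D (T.simple j) s * (nS D F a * nW D F v)⁻¹ =
          nS D F a * (nW D F v * X D (T.simple j) s * (nW D F v)⁻¹) * (nS D F a)⁻¹ by group,
          e2 s, (h.nS_conj_X_orth hO ha hjl hne he1 he2 (-s)).2]
    · have hcomm : Commute (nS D F a) (nW D F v) := by
        have hvn : ∀ b ∈ v, Commute (nS D F a) (nS D F b) := by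
          intro b hb
          obtain ⟨hne, he1, he2⟩ := horth b hb
          have hbl := hwv b hb
          have e := h.nS_conj_X_orth (F := F) hO ha hbl hne he1 he2
          show nS D F a * nS D F b = nS D F b * nS D F a
          rw [← mul_inv_eq_iff_eq_mul]
          simp only [nS, h.simple_eq hbl, nU, h.neg_eq (h.simple_lt hbl)]
          show MulAut.conj (nU D (D.simple a) (1 : F)) (_ * _ * _) = _
          rw [map_mul, map_mul]
          simp only [MulAut.conj_apply]
          congr 1
          · congr 1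
            · exact (e 1).1
            · exact (e _).2
          · exact (e 1).1
        unfold nW
        exact Commute.list_prod_right _ _ fun x hx => by
          obtain ⟨b, hb, rfl⟩ := List.mem_map.1 hx
          exact hvn b hb
      have e2 : nW D F (a :: v) * nW D F (a :: v) =
          (nS D F a * nS D F a) * (nW D F v * nW D F v) := by
        rw [nW_cons, hcomm.symm.mul_mul_mul_comm]
      rw [e2, Units.val_mul, hsqv]
      have hp : D.simple a < T.n := by rw [h.simple_eq ha]; exact h.simple_lt ha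
      have e3 : nS D F a * nS D F a = hU D (D.simple a) (-1 : F) := by
        have e4 : hU D (D.simple a) (-1 : F) * hU D (D.simple a) (-1 : F) = 1 := by
          refine Units.ext ?_
          rw [Units.val_mul, h.coe_hU, h.hMat_root hp (neg_ne_zero.2 one_ne_zero), torus_mul,
            Units.val_one, ← torus_one D]
          refine torus_congr D fun s _ => ?_
          rw [← mul_zpow]; simp
        rw [← inv_eq_of_mul_eq_one_right e4]
        rw [nS, hU, _root_.mul_inv_rev, ← h.nU_inv hp, _root_.inv_inv]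
      rw [e3, h.coe_hU, h.simple_eq ha,
        h.hMat_root (h.simple_lt ha) (neg_ne_zero.2 one_ne_zero), torus_mul]
      refine torus_congr D fun s _ => ?_
      rw [h.pairing_simple ha, List.map_cons, List.sum_cons, zpow_add₀ (neg_ne_zero.2 one_ne_zero)]
    · have hcar : ∀ u, WordOK T u →
          (∀ b ∈ u, a ≠ b ∧ Even (T.car a (T.simple b)) ∧ Even (T.car b (T.simple a))) →
          T.car a (rword T u r) = T.car a r := by
        intro u
        induction u with
        | nil => intro _ _; rfl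
        | cons b u ihu =>
          intro hu ho
          obtain ⟨o1, o2, o3⟩ := ho b List.mem_cons_self
          rw [rword_cons, (h.refl_spec hu.head (h.rword_lt hu.tail hr)).2.2.2.2.2.2.2.1 a ha,
            (T.chkOrth_spec hO ha hu.head o1 o2 o3).1, mul_zero, sub_zero]
          exact ihu hu.tail fun x hx => ho x (List.mem_cons_of_mem _ hx)
      rw [rword_cons, h.charOf_refl hc ha (h.rword_lt hwv hr), hchar c hc r hr, hcar v hwv horth,
        List.map_cons, List.prod_cons]
      ring

/-- A positive root supported on an orthogonal set of nodes is one of those simple roots. -/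
lemma supported_simple (J : Finset ℕ) (hJ : ∀ j ∈ J, j < T.l)
    (horth : ∀ a ∈ J, ∀ b ∈ J, a ≠ b → T.car a (T.simple b) = 0) {x : ℕ} (hh : T.half ≤ x)
    (hx : x < T.n) (hsupp : ∀ k < T.l, k ∉ J → h.wt k x = 0) :
    ∃ j ∈ J, x = T.simple j := by
  induction x using Nat.strong_induction_on with
  | _ x ih =>
    rcases h.exists_lower hh hx with ⟨i, hi, rfl⟩ | ⟨i, hi, hpos, hlt, hcar⟩
    · refine ⟨i, ?_, rfl⟩
      by_contra hiJ
      have := h.wt_simple hi hi
      rw [if_pos rfl, hsupp i hi hiJ] at this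
      omega
    · have hy := h.refl_lt hi hx
      have hiJ : i ∈ J := by
        by_contra hiJ
        have e := h.wt_refl hi hx i
        rw [hsupp i hi hiJ] at e
        have h1 := h.wt_nonneg hi hy hpos
        have h2 := h.wt_simple hi hi
        rw [if_pos rfl] at h2
        nlinarith
      obtain ⟨j, hjJ, ej⟩ := ih _ hlt hpos hy fun k hk hkJ => by
        rw [h.wt_refl hi hx k, hsupp k hk hkJ,
          h.wt_simple_of_ne hi hk (fun e => hkJ (e ▸ hiJ)), mul_zero, sub_zero]
      have ex : x = T.refl i (T.simple j) := by rw [← ej, h.refl_refl hi hx]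
      exfalso
      by_cases e : i = j
      · subst e
        rw [h.refl_simple hi] at ex
        have := (h.half_le_neg_iff (h.simple_lt hi)).1 (ex ▸ hh)
        have := (h.simple_spec hi).1
        omega
      · rw [h.refl_eq_self hi (h.simple_lt (hJ j hjJ)) (horth i hiJ j hjJ e)] at ex
        omega

/-- A word conjugates a diagonal element into the permuted one. -/
lemma nW_conj_torus {w : List ℕ} (hw : WordOK T w) {g : GL D.Idx F}
    (hg : g ∈ D.diagonalSubgroup F) {c : ℕ → F}
    (e : (g : Matrix D.Idx D.Idx F) = torus D (charOf T c)) :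
    nW D F w * g * (nW D F w)⁻¹ ∈ D.diagonalSubgroup F ∧
      ((nW D F w * g * (nW D F w)⁻¹ : GL D.Idx F) : Matrix D.Idx D.Idx F) =
        torus D (fun r => charOf T c (rword T w.reverse r)) := by
  induction w with
  | nil => simpa [nW, rword] using And.intro hg e
  | cons i w ih =>
    obtain ⟨h1, h2⟩ := ih hw.tail
    rw [nW_cons, show nS D F i * nW D F w * g * (nS D F i * nW D F w)⁻¹ =
      nS D F i * (nW D F w * g * (nW D F w)⁻¹) * (nS D F i)⁻¹ by group]
    refine ⟨h.nS_conj_diagonal hw.head h1, ?_⟩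
    set y := nW D F w * g * (nW D F w)⁻¹ with hy
    let Y : Matrix D.Idx D.Idx F :=
      torus D fun r => charOf T c (rword T w.reverse (T.refl i r))
    have e2 : ((nS D F i * y : GL D.Idx F) : Matrix D.Idx D.Idx F) =
        Y * (nS D F i : Matrix D.Idx D.Idx F) := by
      rw [Units.val_mul, h.coe_nS, h2, h.simple_eq hw.head, ← h.simple_eq hw.head,
        h.nMat_mul_torus hw.head]
    rw [Units.val_mul, e2, Matrix.mul_assoc, ← Units.val_mul, mul_inv_cancel, Units.val_one,
      Matrix.mul_one]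
    show Y = _
    simp only [Y, List.reverse_cons, rword_append]
    rfl

/-- Monomial involutions are conjugate to diagonal ones. -/
theorem exists_conj_diagonal [Fintype F] (hF : Odd (Fintype.card F)) (hO : T.chkOrth = true)
    (hI : T.chkInj = true) {m : GL D.Idx F} (hm : m ∈ D.monomialSubgroup F) (hsq : m * m = 1) :
    ∃ x ∈ D.group F, x * m * x⁻¹ ∈ D.diagonalSubgroup F := by
  classical
  have h2 : (2 : F) ≠ 0 := by
    intro e
    have := (FiniteField.even_card_iff_char_two (F := F)).1 (by
      exact CharP.ringChar_of_prime_eq_zero Nat.prime_two (by exact_mod_cast e))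
    have := Nat.odd_iff.1 hF
    omega
  have hrc : ringChar F ≠ 2 := fun e => by
    have := (FiniteField.even_card_iff_char_two (F := F)).1 e
    have := Nat.odd_iff.1 hF
    omega
  suffices ∀ N w, WordOK T w → T.negCount w = N → ∀ t ∈ D.diagonalSubgroup F,
      t * nW D F w * (t * nW D F w) = 1 →
        ∃ x ∈ D.group F, x * (t * nW D F w) * x⁻¹ ∈ D.diagonalSubgroup F by
    obtain ⟨w, hw, t, ht, rfl⟩ := h.exists_word_of_monomial hm
    have ht' : nW D F w * t * (nW D F w)⁻¹ ∈ D.diagonalSubgroup F :=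
      (Subgroup.mem_normalizer_iff.1
        (h.monomial_le_normalizer_diagonal (h.nW_mem_monomial hw)) t).1 ht
    have e : nW D F w * t * (nW D F w)⁻¹ * nW D F w = nW D F w * t := by group
    have := this _ w hw rfl _ ht' (by rw [e]; exact hsq)
    rwa [e] at this
  intro N
  induction N using Nat.strong_induction_on with
  | _ N ih =>
    intro w hw hN t ht hsq
    have hinv := h.rword_involutive hw ht hsq
    have hnW := h.nW_mem_monomial (F := F) hw
    have hnorm : ∀ {i}, i < T.l → ∀ {x : GL D.Idx F}, x ∈ D.diagonalSubgroup F →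
        nS D F i * x * (nS D F i)⁻¹ ∈ D.diagonalSubgroup F := fun hi _ hx =>
      h.nS_conj_diagonal hi hx
    have hstep : ∀ w', WordOK T w' → T.negCount w' < N → ∀ t' ∈ D.diagonalSubgroup F,
        ∀ x ∈ D.group F, x * (t * nW D F w) * x⁻¹ = t' * nW D F w' →
          ∃ z ∈ D.group F, z * (t * nW D F w) * z⁻¹ ∈ D.diagonalSubgroup F := by
      intro w' hw' hlt t' ht' x hx e
      obtain ⟨z, hz, ez⟩ := ih _ hlt w' hw' rfl t' ht' (by
        rw [← e, show x * (t * nW D F w) * x⁻¹ * (x * (t * nW D F w) * x⁻¹) =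
          x * (t * nW D F w * (t * nW D F w)) * x⁻¹ by group, hsq]; group)
      refine ⟨z * x, mul_mem hz hx, ?_⟩
      rw [← e] at ez
      simpa [mul_assoc] using ez
    by_cases hpos : ∀ i < T.l, T.half ≤ rword T w (T.simple i)
    · exact ⟨1, one_mem _, by simpa using mul_mem ht (h.nW_mem_diagonal hw hpos)⟩
    by_cases hbad : ∃ i < T.l, rword T w (T.simple i) < T.half ∧
        rword T w (T.simple i) ≠ T.neg (T.simple i)
    · obtain ⟨i, hi, hneg, hne⟩ := hbad
      have hlt := h.negCount_conj_lt hw hinv hi hneg hne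
      have hok : WordOK T ([i] ++ w ++ [i]) := fun a ha => by
        rcases List.mem_append.1 ha with ha | ha
        · rcases List.mem_append.1 ha with ha | ha
          · rw [List.mem_singleton.1 ha]; exact hi
          · exact hw a ha
        · rw [List.mem_singleton.1 ha]; exact hi
      have hq : (nS D F i)⁻¹ * (nS D F i)⁻¹ ∈ D.diagonalSubgroup F := by
        rw [← _root_.mul_inv_rev]; exact inv_mem (h.nS_mul_self hi)
      have hn' : nW D F ([i] ++ w ++ [i]) ∈ D.monomialSubgroup F := h.nW_mem_monomial hok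
      refine hstep _ hok (hN ▸ hlt) (nS D F i * t * (nS D F i)⁻¹ *
        (nW D F ([i] ++ w ++ [i]) * ((nS D F i)⁻¹ * (nS D F i)⁻¹) *
          (nW D F ([i] ++ w ++ [i]))⁻¹)) (mul_mem (hnorm hi ht) ?_) (nS D F i)
        (h.monomial_le_group (h.nS_mem_monomial hi)) ?_
      · exact (Subgroup.mem_normalizer_iff.1 (h.monomial_le_normalizer_diagonal hn') _).1 hq
      · rw [nW_append, nW_append, show nW D F [i] = nS D F i by simp [nW]]
        group
    push Not at hpos hbad
    obtain ⟨J, hJ⟩ : ∃ J : Finset ℕ, ∀ i, i ∈ J ↔ i < T.l ∧ rword T w (T.simple i) < T.half :=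
      ⟨(Finset.range T.l).filter fun i => rword T w (T.simple i) < T.half, by simp⟩
    have hJneg : ∀ i ∈ J, rword T w (T.simple i) = T.neg (T.simple i) := fun i hi =>
      hbad i ((hJ i).1 hi).1 ((hJ i).1 hi).2
    set m := t * nW D F w with hmd
    have hsc : ∀ i ∈ J, ∃ μ : F, μ ≠ 0 ∧
        ∀ s : F, m * X D (T.simple i) s * m⁻¹ = X D (T.neg (T.simple i)) (μ * s) := by
      intro i hiJ
      have hi := ((hJ i).1 hiJ).1
      obtain ⟨c, hc, e⟩ : Maps D m (T.simple i) (T.neg (T.simple i)) := by
        rw [← hJneg i hiJ]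
        exact Maps_mul (h.Maps_nW hw (h.simple_lt hi))
          (h.Maps_diagonal ht (h.rword_lt hw (h.simple_lt hi)))
      exact ⟨c, hc, e⟩
    have hred : ∀ i ∈ J, ∀ μ : F, μ ≠ 0 → IsSquare μ → ∀ A ∈ D.diagonalSubgroup F,
        A * m * (A * m) = 1 → (∃ y ∈ D.group F, y * m * y⁻¹ = A * m) →
        (∀ s : F, A * m * X D (T.simple i) s * (A * m)⁻¹ = X D (T.neg (T.simple i)) (μ * s)) →
        ∃ z ∈ D.group F, z * m * z⁻¹ ∈ D.diagonalSubgroup F := by
      intro i hiJ μ hμ hsqr A hA hAsq ⟨y, hy, ey⟩ hμe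
      have hi := ((hJ i).1 hiJ).1
      obtain ⟨x, hx, z, hz, e⟩ := h.exists_conj_split hi h2 hAsq hμ hsqr hμe
      have hlt := h.negCount_cons_lt hw hinv hi (hJneg i hiJ)
      have hok : WordOK T (i :: w) := fun a ha => by
        rcases List.mem_cons.1 ha with rfl | ha
        · exact hi
        · exact hw a ha
      have hnz : nU D (T.simple i) z = hU D (T.simple i) z * nS D F i := by
        refine Units.ext ?_
        rw [Units.val_mul, h.coe_hU, h.coe_nS, h.coe_nU, ← h.simple_eq hi, h.nMat_eq_hMat_mul hi]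
      refine hstep _ hok (hN ▸ hlt) (hU D (T.simple i) z * (nS D F i * (A * t) * (nS D F i)⁻¹))
        (mul_mem (h.hU_mem (h.simple_lt hi) hz) (hnorm hi (mul_mem hA ht))) (x * y)
        (mul_mem hx hy) ?_
      rw [_root_.mul_inv_rev, show x * y * m * (y⁻¹ * x⁻¹) = x * (y * m * y⁻¹) * x⁻¹ by group, ey,
        e, hnz, nW_cons, hmd]
      group
    -- one square parameter
    by_cases hone : ∃ i ∈ J, ∃ μ : F, μ ≠ 0 ∧ IsSquare μ ∧
        ∀ s : F, m * X D (T.simple i) s * m⁻¹ = X D (T.neg (T.simple i)) (μ * s)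
    · obtain ⟨i, hiJ, μ, hμ, hsqr, e⟩ := hone
      exact hred i hiJ μ hμ hsqr 1 (one_mem _) (by rw [one_mul]; exact hsq)
        ⟨1, one_mem _, by group⟩ (by simpa using e)
    -- two nodes with an odd pairing
    by_cases htwo : ∃ i ∈ J, ∃ j ∈ J, Odd (T.car i (T.simple j))
    · obtain ⟨i, hiJ, j, hjJ, hodd⟩ := htwo
      have hi := ((hJ i).1 hiJ).1
      have hj := ((hJ j).1 hjJ).1
      obtain ⟨μ, hμ, eμ⟩ := hsc i hiJ
      obtain ⟨ν, hν, eν⟩ := hsc j hjJ
      obtain ⟨y, hy, ey⟩ := h.exists_conj_scale hF hi hsq hμ eμ hν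
      refine hred j hjJ (ν ^ (1 - T.car i (T.simple j))) (zpow_ne_zero _ hν) ?_ _
        (h.hU_mem (h.simple_lt hi) hν) ?_ ⟨y, hy, ey⟩ fun s => ?_
      · obtain ⟨k, hk⟩ := hodd
        exact ⟨ν ^ (-k), by rw [← zpow_add₀ hν, hk]; congr 1; ring⟩
      · rw [← ey, show y * m * y⁻¹ * (y * m * y⁻¹) = y * (m * m) * y⁻¹ by group, hsq]; group
      · rw [show hU D (T.simple i) ν * m * X D (T.simple j) s * (hU D (T.simple i) ν * m)⁻¹ =
          hU D (T.simple i) ν * (m * X D (T.simple j) s * m⁻¹) * (hU D (T.simple i) ν)⁻¹ by group,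
          eν, mul_inv_eq_iff_eq_mul]
        refine Units.ext ?_
        rw [Units.val_mul, Units.val_mul, h.coe_hU, h.coe_X, h.coe_X,
          h.hMat_mul_x (h.simple_lt hi) hν (neg_lt (T := T) (h.simple_lt hj)),
          h.pairing_simple hi, (h.root_spec (h.simple_lt hj) hi).2.2.2]
        congr 2
        rw [sub_eq_add_neg, zpow_add₀ hν, zpow_one]
        ring
    -- pairwise orthogonal
    exfalso
    push Not at hone htwo
    have hJl : ∀ i ∈ J, i < T.l := fun i hi => ((hJ i).1 hi).1
    have hev : ∀ a ∈ J.toList, ∀ b ∈ J.toList, Even (T.car a (T.simple b)) := fun a ha b hb =>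
      Int.not_odd_iff_even.1 (htwo a (Finset.mem_toList.1 ha) b (Finset.mem_toList.1 hb))
    have hvok : WordOK T J.toList := fun a ha => hJl a (Finset.mem_toList.1 ha)
    set v := J.toList with hvd
    obtain ⟨-, hfix, hin, hnsq, hchar⟩ := h.orth_word (F := F) hO hvok J.nodup_toList hev
    have hJ0 : ∀ a ∈ J, ∀ b ∈ J, a ≠ b → T.car a (T.simple b) = 0 := fun a ha b hb hne =>
      (T.chkOrth_spec hO (hJl a ha) (hJl b hb) hne
        (hev a (Finset.mem_toList.2 ha) b (Finset.mem_toList.2 hb))
        (hev b (Finset.mem_toList.2 hb) a (Finset.mem_toList.2 ha))).1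
    have hprod : ∀ i < T.l, T.half ≤ rword T (w ++ v) (T.simple i) := by
      intro i hi
      rw [rword_append]
      by_cases hiJ : i ∈ J
      · rw [(hin i (Finset.mem_toList.2 hiJ)).1, h.rword_neg hw (h.simple_lt hi), hJneg i hiJ,
          neg_neg (T := T) (h.simple_lt hi)]
        exact (h.simple_spec hi).1
      · have hx : T.half ≤ rword T w (T.simple i) := by
          by_contra hlt
          exact hiJ ((hJ i).2 ⟨hi, not_le.1 hlt⟩)
        have hwt : ∀ (u : List ℕ), WordOK T u → (∀ a ∈ u, a ∈ J) → ∀ k < T.l, k ∉ J →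
            h.wt k (rword T w (rword T u (T.simple i))) = h.wt k (rword T w (T.simple i)) := by
          intro u
          induction u with
          | nil => intro _ _ k _ _; rfl
          | cons a u ihu =>
            intro hu huJ k hk hkJ
            rw [rword_cons, h.wt_rword_refl hw hu.head (h.rword_lt hu.tail (h.simple_lt hi)),
              hJneg a (huJ a List.mem_cons_self), h.wt_neg (h.simple_lt hu.head),
              h.wt_simple_of_ne hu.head hk (fun e => hkJ (e ▸ huJ a List.mem_cons_self)),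
              neg_zero, mul_zero, sub_zero]
            exact ihu hu.tail (fun b hb => huJ b (List.mem_cons_of_mem _ hb)) k hk hkJ
        by_contra hlt
        rw [not_le] at hlt
        have hz : ∀ k < T.l, k ∉ J → h.wt k (rword T w (T.simple i)) = 0 := by
          intro k hk hkJ
          refine le_antisymm ?_ (h.wt_nonneg hk (h.rword_lt hw (h.simple_lt hi)) hx)
          rw [← hwt v hvok (fun a ha => Finset.mem_toList.1 ha) k hk hkJ]
          exact h.wt_nonpos hk (h.rword_lt hw (h.rword_lt hvok (h.simple_lt hi))) hlt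
        obtain ⟨j, hjJ, ej⟩ := h.supported_simple J hJl hJ0 hx (h.rword_lt hw (h.simple_lt hi)) hz
        have e := congrArg (rword T w) ej
        rw [hinv _ (h.simple_lt hi), hJneg j hjJ] at e
        have := (h.half_le_neg_iff (h.simple_lt (hJl j hjJ))).1 (e ▸ (h.simple_spec hi).1)
        have := (h.simple_spec (hJl j hjJ)).1
        omega
    have hok : WordOK T (w ++ v) := fun a ha => by
      rcases List.mem_append.1 ha with ha | ha
      · exact hw a ha
      · exact hvok a ha
    set n := nW D F v with hnd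
    have hwn : nW D F w * n ∈ D.diagonalSubgroup F := by
      rw [hnd, ← nW_append]; exact h.nW_mem_diagonal hok hprod
    have hn2 : n * n ∈ D.diagonalSubgroup F :=
      h.mem_diagonalSubgroup_iff.2 ⟨fun a => if a ∈ J then -1 else 1,
        fun a _ => by by_cases e : a ∈ J <;> simp [e], by
        rw [hnsq]
        refine torus_congr D fun r _ => ?_
        rw [charOf, hvd, Finset.sum_map_toList,
          show (∑ a ∈ J, T.car a r) = ∑ a ∈ Finset.range T.l, if a ∈ J then T.car a r else 0 by
            rw [← Finset.sum_filter]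
            refine Finset.sum_congr ?_ fun _ _ => rfl
            ext a; simp only [Finset.mem_filter, Finset.mem_range]
            exact ⟨fun ha => ⟨hJl a ha, ha⟩, fun ha => ha.2⟩]
        induction Finset.range T.l using Finset.cons_induction with
        | empty => simp
        | cons a S ha ihS =>
          rw [Finset.prod_cons, Finset.sum_cons, zpow_add₀ (neg_ne_zero.2 one_ne_zero), ihS]
          by_cases e : a ∈ J <;> simp [e]⟩
    set t0 := t * (nW D F w * n) * (n * n)⁻¹ with ht0d
    have ht0 : t0 ∈ D.diagonalSubgroup F := mul_mem (mul_mem ht hwn) (inv_mem hn2)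
    have hm0 : m = t0 * n := by rw [hmd, ht0d]; group
    obtain ⟨c, hc, ec⟩ := h.mem_diagonalSubgroup_iff.1 ht0
    clear_value t0
    -- the parameters
    have hμ : ∀ j ∈ J, ¬ IsSquare (-(charOf T c (T.simple j))⁻¹) := by
      intro j hjJ hsqr
      have hj := hJl j hjJ
      have hp := h.simple_lt hj
      have hne := charOf_ne_zero (T := T) hc (T.simple j)
      obtain ⟨s, hs⟩ := hone j hjJ _ (neg_ne_zero.2 (inv_ne_zero hne)) hsqr
      apply hs
      rw [hm0, show t0 * n * X D (T.simple j) s * (t0 * n)⁻¹ =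
        t0 * (n * X D (T.simple j) s * n⁻¹) * t0⁻¹ by group,
        (hin j (Finset.mem_toList.2 hjJ)).2 s, mul_inv_eq_iff_eq_mul]
      refine Units.ext ?_
      rw [Units.val_mul, Units.val_mul, h.coe_X, h.coe_X, ec,
        h.torus_mul_x (h.isChar_charOf hc) (neg_lt (T := T) hp),
        eq_inv_of_mul_eq_one_right ((h.isChar_charOf hc).mul_neg _ hp)]
      congr 2
      ring
    -- a node with an odd pairing
    have hJne : J.Nonempty := by
      obtain ⟨i, hi, hlt⟩ := hpos
      exact ⟨i, (hJ i).2 ⟨hi, hlt⟩⟩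
    obtain ⟨i, hi, hiodd⟩ : ∃ i < T.l, Odd (∑ j ∈ J, T.car j (T.simple i)) := by
      have hbit : ∀ a, (Tab.bitsOf v).testBit a = true ↔ a ∈ J := fun a => by
        rw [testBit_bitsOf, hvd, Finset.mem_toList]
      by_contra hno
      push Not at hno
      have hz : Tab.bitsOf v = 0 := by
        refine eq_zero_of_valZ hI (Nat.lt_pow_two_of_testBit _ fun a ha => ?_) fun i hi => ?_
        · by_contra hb
          rw [Bool.not_eq_false, hbit] at hb
          have := hJl a hb
          omega
        · have e1 : T.valZ (Tab.bitsOf v) (T.simple i) =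
              ((∑ j ∈ J, T.car j (T.simple i) : ℤ) : ZMod 2) := by
            rw [Tab.valZ, ← Finset.sum_filter]
            push_cast
            refine Finset.sum_congr ?_ fun _ _ => rfl
            ext a
            rw [Finset.mem_filter, Finset.mem_range, hbit]
            exact ⟨fun ha => ha.2, fun ha => ⟨hJl a ha, ha⟩⟩
          rw [e1, ZMod.intCast_eq_zero_iff_even]
          exact Int.not_odd_iff_even.1 (hno i hi)
      obtain ⟨j, hj⟩ := hJne
      have := (hbit j).2 hj
      rw [hz] at this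
      simp at this
    have hvrok : WordOK T v.reverse := fun a ha => hvok a (List.mem_reverse.1 ha)
    obtain ⟨-, -, -, -, hchar'⟩ := h.orth_word (F := F) hO hvrok
      (List.nodup_reverse.2 J.nodup_toList)
      fun a ha b hb => hev a (List.mem_reverse.1 ha) b (List.mem_reverse.1 hb)
    have hnt : n * t0 * n⁻¹ ∈ D.diagonalSubgroup F ∧
        ((n * t0 * n⁻¹ : GL D.Idx F) : Matrix D.Idx D.Idx F) =
          torus D (fun r => charOf T c (rword T v.reverse r)) := by
      rw [hnd]
      exact h.nW_conj_torus hvok ht0 ec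
    have he : m * m = t0 * (n * t0 * n⁻¹) * (n * n) := by rw [hm0]; group
    have he2 := congrArg (fun g : GL D.Idx F => (g : Matrix D.Idx D.Idx F)) (he.symm.trans hsq)
    simp only [Units.val_one] at he2
    rw [Units.val_mul, Units.val_mul, hnt.2, hnsq, ec, torus_mul, torus_mul, ← torus_one D] at he2
    have he3 := congrFun (Matrix.diagonal_injective he2)
      (Sum.inr ⟨T.simple i, lt_of_lt_of_eq (h.simple_lt hi) h.nroots_eq.symm⟩)
    simp only [Sum.elim_inr] at he3
    rw [hchar' c hc _ (h.simple_lt hi), List.map_reverse, List.prod_reverse, hvd,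
      Finset.prod_map_toList, Finset.sum_map_toList] at he3
    have hsqp : IsSquare (∏ j ∈ J, (-(charOf T c (T.simple j))⁻¹) ^ T.car j (T.simple i)) := by
      have e1 : ∏ j ∈ J, (-(charOf T c (T.simple j))⁻¹) ^ T.car j (T.simple i) =
          (-1 : F) ^ (∑ j ∈ J, T.car j (T.simple i)) *
            ∏ j ∈ J, charOf T c (T.simple j) ^ (-T.car j (T.simple i)) := by
        rw [← prod_zpow_eq_zpow_sum (neg_ne_zero.2 one_ne_zero), ← Finset.prod_mul_distrib]
        refine Finset.prod_congr rfl fun j _ => ?_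
        rw [← neg_one_mul, mul_zpow, _root_.inv_zpow, _root_.zpow_neg]
      refine ⟨(charOf T c (T.simple i))⁻¹, ?_⟩
      rw [e1, ← _root_.mul_inv]
      refine eq_inv_of_mul_eq_one_left ?_
      refine Eq.trans ?_ he3
      ring
    have := (isSquare_zpow_iff_of_nonsquare hrc J _ _ (fun j _ =>
      neg_ne_zero.2 (inv_ne_zero (charOf_ne_zero (T := T) hc (T.simple j)))) hμ).1 hsqp
    exact Int.not_even_iff_odd.2 hiodd this

end Cert

end CfsgLib.Chev
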