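import Cfsg.Agent.Lib.Chev.OddInvol.ToMonomial
import Cfsg.Agent.Lib.Chev.OddInvol.Reduce
import Cfsg.Agent.Lib.Chev.OddInvol.Count

/-!
The classes of involutions in odd characteristic and the orders of their centralizers.
-/

set_option autoImplicit false

namespace CfsgLib.Chev

open Cfsg.Lie Matrix

namespace Tab

/-- Every nonzero mask descends to one of two. -/
noncomputable def chkOddOrb (T : Tab) (rank : List ℕ) (a b : ℕ) : Bool :=
  allBelow (2 ^ T.l) fun M => (Nat.beq M 0 || Nat.beq M a || Nat.beq M b) ||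
    !(allBelow T.l fun i => !(Nat.blt (rank.getD (T.mvMask i M) 0) (rank.getD M 0)))

end Tab

namespace Cert

variable {D : ChevalleyDatum} {T : Tab} {C : Tab.Cover} (h : Cert D T C) {F : Type*} [Field F]
include h

omit h in
lemma two_ne_zero_of_odd_card [Fintype F] (hF : Odd (Fintype.card F)) : (2 : F) ≠ 0 := by
  intro e
  have := (FiniteField.even_card_iff_char_two (F := F)).1
    (CharP.ringChar_of_prime_eq_zero Nat.prime_two (by exact_mod_cast e))
  have := Nat.odd_iff.1 hF
  omega

/-- An orbit of masks gives conjugate sign elements. -/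
lemma exists_conj_rep {rank : List ℕ} {a b : ℕ} (hR : T.chkOddOrb rank a b = true) :
    ∀ (n : ℕ) (M : ℕ), M < 2 ^ T.l → M ≠ 0 → rank.getD M 0 = n →
      ∃ x ∈ D.group F, x * hMask D T F M * x⁻¹ = hMask D T F a ∨
        x * hMask D T F M * x⁻¹ = hMask D T F b := by
  intro n
  induction n using Nat.strong_induction_on with
  | _ n ih =>
    intro M hM hM0 hn
    by_cases ha : M = a
    · exact ⟨1, one_mem _, Or.inl (by subst ha; group)⟩
    by_cases hb : M = b
    · exact ⟨1, one_mem _, Or.inr (by subst hb; group)⟩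
    have h1 := allBelow_eq_true hR M hM
    have hbe : ∀ {x y : ℕ}, x ≠ y → Nat.beq x y = false := fun {x y} hne => by
      cases e : Nat.beq x y
      · rfl
      · exact absurd (Nat.eq_of_beq_eq_true e) hne
    rw [hbe hM0, hbe ha, hbe hb] at h1
    simp only [Bool.false_or, Bool.not_eq_true'] at h1
    obtain ⟨i, hi, hlt⟩ : ∃ i < T.l, rank.getD (T.mvMask i M) 0 < rank.getD M 0 := by
      by_contra hne
      push Not at hne
      refine Bool.false_ne_true (h1.symm.trans (allBelow_of_forall fun i hi => ?_))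
      cases e : Nat.blt (rank.getD (T.mvMask i M) 0) (rank.getD M 0)
      · rfl
      · exact absurd (Nat.le_of_ble_eq_true e) (not_le.2 (Nat.lt_succ_of_le (hne i hi)))
    have hne0 : T.mvMask i M ≠ 0 := by
      intro e
      have e2 := h.mvMask_mvMask hi M
      rw [e, T.mvMask_eq, if_neg] at e2
      · exact hM0 e2.symm
      · simp [Tab.valZ]
    obtain ⟨x, hx, he⟩ := ih _ (hn ▸ hlt) _ (T.mvMask_lt hi hM) hne0 rfl
    refine ⟨x * nS D F i, mul_mem hx (h.monomial_le_group (h.nS_mem_monomial hi)), ?_⟩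
    rw [show x * nS D F i * hMask D T F M * (x * nS D F i)⁻¹ =
      x * (nS D F i * hMask D T F M * (nS D F i)⁻¹) * x⁻¹ by group, h.nS_conj_hMask hi]
    exact he

lemma hMask_zero : hMask D T F 0 = 1 := by
  refine Units.ext ?_
  rw [coe_hMask, Units.val_one, ← torus_one D]
  refine torus_congr D fun s _ => ?_
  simp [sgnF, Tab.valZ]

lemma hMask_mem_group (M : ℕ) : hMask D T F M ∈ D.group F := h.diagonal_le_group (h.hMask_mem M)

lemma orderOf_hMask (h2 : (2 : F) ≠ 0) (hI : T.chkInj = true) {M : ℕ} (hM : M < 2 ^ T.l)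
    (hM0 : M ≠ 0) :
    orderOf (⟨hMask D T F M, h.hMask_mem_group M⟩ : ↥(D.group F)) = 2 := by
  have : Fact (Nat.Prime 2) := ⟨Nat.prime_two⟩
  rw [← Subgroup.orderOf_coe]
  refine orderOf_eq_prime (by rw [pow_two, hMask_mul_self]) fun e => hM0 ?_
  exact h.hMask_inj h2 hI hM (Nat.two_pow_pos _) (e.trans h.hMask_zero.symm)

/-- The classes of involutions. -/
theorem invol_classes [Fintype F] (hF : Odd (Fintype.card F)) (hO : T.chkOrth = true)
    (hI : T.chkInj = true) {rank : List ℕ} {a b : ℕ} (hR : T.chkOddOrb rank a b = true)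
    (u : ↥(D.group F)) (hu : orderOf u = 2) :
    IsConj u ⟨hMask D T F a, h.hMask_mem_group a⟩ ∨
      IsConj u ⟨hMask D T F b, h.hMask_mem_group b⟩ := by
  obtain ⟨g, hg⟩ := u
  rw [← Subgroup.orderOf_coe] at hu
  change orderOf g = 2 at hu
  have hsq : g * g = 1 := by rw [← pow_two, ← hu, pow_orderOf_eq_one]
  have hsq' : ∀ x : GL D.Idx F, x * g * x⁻¹ * (x * g * x⁻¹) = 1 := fun x => by
    rw [show x * g * x⁻¹ * (x * g * x⁻¹) = x * (g * g) * x⁻¹ by group, hsq]; group
  obtain ⟨x, hx, hxm⟩ := h.exists_conj_monomial hF hg hsq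
  obtain ⟨y, hy, hyd⟩ := h.exists_conj_diagonal hF hO hI hxm (hsq' x)
  have e : y * (x * g * x⁻¹) * y⁻¹ = y * x * g * (y * x)⁻¹ := by group
  obtain ⟨M, hM, eM⟩ := h.exists_mask hI hyd (by rw [e]; exact hsq' (y * x))
  rw [e] at eM
  have hM0 : M ≠ 0 := by
    intro e0
    rw [e0, h.hMask_zero, mul_inv_eq_one, mul_eq_left] at eM
    rw [eM, orderOf_one] at hu
    exact absurd hu (by norm_num)
  obtain ⟨z, hz, hzr⟩ := h.exists_conj_rep (F := F) hR _ M hM hM0 rfl
  have key : ∀ c, z * hMask D T F M * z⁻¹ = hMask D T F c →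
      IsConj (⟨g, hg⟩ : ↥(D.group F)) ⟨hMask D T F c, h.hMask_mem_group c⟩ := fun c hc =>
    isConj_iff.2 ⟨⟨z * (y * x), mul_mem hz (mul_mem hy hx)⟩, Subtype.ext (by
      show z * (y * x) * g * (z * (y * x))⁻¹ = hMask D T F c
      rw [← hc, ← eM]; group)⟩
  exact hzr.imp (key a) (key b)

/-- The order of the centralizer. -/
theorem card_centralizer_of_cert [Fintype F] (h2 : (2 : F) ≠ 0) (hI : T.chkInj = true)
    {Lv : List Level} (hLv : T.chkLevels Lv = true) {tb st : List ℕ} (hV : T.chkVal tb = true)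
    {M : ℕ} (hM : M < 2 ^ T.l) {ds : List (List (List ℕ × List ℕ))} {P : List (List ℕ)}
    {E : List ℕ} (hdp : T.chkDP Lv tb st M ds P E = true) :
    Nat.card (Subgroup.centralizer
        ({⟨hMask D T F M, h.hMask_mem_group M⟩} : Set ↥(D.group F))) =
      Fintype.card F ^ (fixList T M (posList T)).length * Nat.card (D.diagonalSubgroup F) *
        ∑ i ∈ Finset.range E.length, E.getD i 0 * Fintype.card F ^ i := by
  rw [← h.sum_stab hLv hV hM hdp, ← h.card_centralizer_hMask h2 hI hLv hM]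
  refine Nat.card_congr
    { toFun := fun g => ⟨g.1.1, g.1.2, ?_⟩
      invFun := fun g => ⟨⟨g.1, g.2.1⟩, ?_⟩
      left_inv := fun _ => rfl
      right_inv := fun _ => rfl }
  · have e := congrArg Subtype.val (Subgroup.mem_centralizer_singleton_iff.1 g.2)
    change g.1.1 * hMask D T F M = hMask D T F M * g.1.1 at e
    rw [← e, mul_inv_cancel_right]
  · refine Subgroup.mem_centralizer_singleton_iff.2 (Subtype.ext ?_)
    show g.1 * hMask D T F M = hMask D T F M * g.1
    exact (mul_inv_eq_iff_eq_mul.1 g.2.2).symm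

end Cert

end CfsgLib.Chev
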