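import Mathlib

/-!
Evaluating a coefficient list.
-/

set_option autoImplicit false

namespace CfsgLib.Chev

/-- Horner evaluation. -/
def horner {R : Type*} [CommSemiring R] (E : List ℕ) (q : R) : R :=
  List.foldr (fun (c : ℕ) acc => (c : R) + q * acc) 0 E

lemma sum_getD_eq_horner {R : Type*} [CommSemiring R] (q : R) : ∀ E : List ℕ,
    ∑ i ∈ Finset.range E.length, ((E.getD i 0 : ℕ) : R) * q ^ i = horner E q
  | [] => by simp [horner]
  | c :: E => by
    rw [List.length_cons, Finset.sum_range_succ']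
    show _ = (c : R) + q * horner E q
    rw [← sum_getD_eq_horner q E, Finset.mul_sum]
    simp only [List.getD_cons_succ, List.getD_cons_zero, pow_zero, mul_one]
    rw [add_comm]
    refine congrArg _ (Finset.sum_congr rfl fun i _ => ?_)
    ring

lemma horner_cast (E : List ℕ) (q : ℕ) : ((horner E q : ℕ) : ℤ) = horner E (q : ℤ) := by
  induction E with
  | nil => simp [horner]
  | cons c E ih =>
    show (((c : ℕ) + q * horner E q : ℕ) : ℤ) = _
    push_cast [ih]
    rfl

lemma horner_nil {R : Type*} [CommSemiring R] (q : R) : horner [] q = 0 := rfl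

lemma horner_cons {R : Type*} [CommSemiring R] (c : ℕ) (E : List ℕ) (q : R) :
    horner (c :: E) q = (c : R) + q * horner E q := rfl

end CfsgLib.Chev

namespace CfsgLib.Chev

lemma coprime_pow_sub_one {q k : ℕ} (hq : 1 ≤ q) (hk : k ≠ 0) :
    Nat.Coprime q (q ^ k - 1) := by
  have h2 : Nat.Coprime (q ^ k) (q ^ k - 1) := by
    rw [Nat.coprime_self_sub_right (Nat.one_le_pow _ _ hq)]
    exact Nat.coprime_one_right _
  exact (Nat.coprime_pow_left_iff (Nat.pos_of_ne_zero hk) _ _).1 h2

lemma ne_of_exponents {q a b A B : ℕ} (hq : 2 ≤ q) (hab : a < b) (hA : Nat.Coprime q A)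
    (e : q ^ a * A = q ^ b * B) : False := by
  obtain ⟨k, rfl⟩ : ∃ k, b = a + (k + 1) := ⟨b - a - 1, by omega⟩
  rw [pow_add, mul_assoc] at e
  have e2 := Nat.eq_of_mul_eq_mul_left (pow_pos (by omega) a) e
  have h1 : q ∣ A := ⟨q ^ k * B, by rw [e2, pow_succ]; ring⟩
  have := Nat.eq_one_of_dvd_coprimes hA dvd_rfl h1
  omega

/-- Conjugate elements have centralizers of the same order. -/
lemma card_centralizer_eq_of_isConj {G : Type*} [Group G] {a b : G} (h : IsConj a b) :
    Nat.card (Subgroup.centralizer ({a} : Set G)) = Nat.card (Subgroup.centralizer ({b} : Set G)) := by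
  obtain ⟨c, hc⟩ := isConj_iff.1 h
  subst hc
  refine Nat.card_congr
    { toFun := fun g => ⟨c * g.1 * c⁻¹, ?_⟩
      invFun := fun g => ⟨c⁻¹ * g.1 * c, ?_⟩
      left_inv := fun g => Subtype.ext (by group)
      right_inv := fun g => Subtype.ext (by group) }
  · have e := Subgroup.mem_centralizer_singleton_iff.1 g.2
    refine Subgroup.mem_centralizer_singleton_iff.2 ?_
    calc c * g.1 * c⁻¹ * (c * a * c⁻¹) = c * (g.1 * a) * c⁻¹ := by group
      _ = c * (a * g.1) * c⁻¹ := by rw [e]
      _ = _ := by group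
  · have e := Subgroup.mem_centralizer_singleton_iff.1 g.2
    refine Subgroup.mem_centralizer_singleton_iff.2 ?_
    calc c⁻¹ * g.1 * c * a = c⁻¹ * (g.1 * (c * a * c⁻¹)) * c := by group
      _ = c⁻¹ * (c * a * c⁻¹ * g.1) * c := by rw [e]
      _ = _ := by group

end CfsgLib.Chev
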