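import Cfsg.Agent.Lib.Chev.OrderData
import Cfsg.Agent.Lib.Chev.OddInvol.Poly
import Cfsg.Agent.Lib.Chev.OddInvol.CheckF4

/-!
Involutions of the Chevalley group of type F4 in odd characteristic.
-/

set_option autoImplicit false
set_option maxRecDepth 100000

namespace CfsgLib.Chev.OddInvolF4

open Cfsg.Lie

set_option maxHeartbeats 4000000 in
lemma sPoly_eval (x : ℤ) : (x - 1) ^ 4 * horner sPoly x = (x ^ 2 - 1) * (x ^ 4 - 1) * (x ^ 6 - 1) * (x ^ 8 - 1) := by
  simp only [sPoly, horner_cons, horner_nil]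
  push_cast
  ring

lemma sPoly_nat (q : ℕ) (hq : 1 ≤ q) :
    (q - 1) ^ 4 * ∑ i ∈ Finset.range (sPoly).length, (sPoly).getD i 0 * q ^ i =
      (q ^ 2 - 1) * (q ^ 4 - 1) * (q ^ 6 - 1) * (q ^ 8 - 1) := by
  have hp : ∀ e, 1 ≤ q ^ e := fun e => Nat.one_le_pow _ _ hq
  have e := sum_getD_eq_horner (R := ℕ) q sPoly
  simp only [Nat.cast_id] at e
  rw [e]
  apply Nat.cast_injective (R := ℤ)
  push_cast [Nat.cast_sub hq, Nat.cast_sub (hp _), horner_cast]
  exact sPoly_eval _

variable {F : Type*} [Field F] [Fintype F] in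
theorem card_s (hF : Odd (Fintype.card F)) :
    Nat.card (Subgroup.centralizer
      ({⟨hMask chevF4 tabF4 F sMask, certF4.hMask_mem_group sMask⟩} :
        Set ↥(chevF4.group F))) =
      Fintype.card F ^ 16 * ((Fintype.card F ^ 2 - 1) * (Fintype.card F ^ 4 - 1) * (Fintype.card F ^ 6 - 1) * (Fintype.card F ^ 8 - 1)) := by
  rw [certF4.card_centralizer_of_cert (Cert.two_ne_zero_of_odd_card hF) chkInj chkLevelsF4
    chkVal (M := sMask) (by decide +kernel) chkS, fixS, card_diagonalF4,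
    mul_assoc]
  rw [sPoly_nat _ Fintype.card_pos]

set_option maxHeartbeats 4000000 in
lemma tPoly_eval (x : ℤ) : (x - 1) ^ 4 * horner tPoly x = (x ^ 2 - 1) ^ 2 * (x ^ 4 - 1) * (x ^ 6 - 1) := by
  simp only [tPoly, horner_cons, horner_nil]
  push_cast
  ring

lemma tPoly_nat (q : ℕ) (hq : 1 ≤ q) :
    (q - 1) ^ 4 * ∑ i ∈ Finset.range (tPoly).length, (tPoly).getD i 0 * q ^ i =
      (q ^ 2 - 1) ^ 2 * (q ^ 4 - 1) * (q ^ 6 - 1) := by
  have hp : ∀ e, 1 ≤ q ^ e := fun e => Nat.one_le_pow _ _ hq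
  have e := sum_getD_eq_horner (R := ℕ) q tPoly
  simp only [Nat.cast_id] at e
  rw [e]
  apply Nat.cast_injective (R := ℤ)
  push_cast [Nat.cast_sub hq, Nat.cast_sub (hp _), horner_cast]
  exact tPoly_eval _

variable {F : Type*} [Field F] [Fintype F] in
theorem card_t (hF : Odd (Fintype.card F)) :
    Nat.card (Subgroup.centralizer
      ({⟨hMask chevF4 tabF4 F tMask, certF4.hMask_mem_group tMask⟩} :
        Set ↥(chevF4.group F))) =
      Fintype.card F ^ 10 * ((Fintype.card F ^ 2 - 1) ^ 2 * (Fintype.card F ^ 4 - 1) * (Fintype.card F ^ 6 - 1)) := by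
  rw [certF4.card_centralizer_of_cert (Cert.two_ne_zero_of_odd_card hF) chkInj chkLevelsF4
    chkVal (M := tMask) (by decide +kernel) chkT, fixT, card_diagonalF4,
    mul_assoc]
  rw [tPoly_nat _ Fintype.card_pos]

variable {F : Type*} [Field F] [Fintype F]

/-- The two classes. -/
theorem main (hF : Odd (Fintype.card F)) :
    ∃ s t : ↥(chevF4.group F), orderOf s = 2 ∧ orderOf t = 2 ∧ ¬ IsConj s t ∧
      (∀ u : ↥(chevF4.group F), orderOf u = 2 → IsConj u s ∨ IsConj u t) ∧
      Nat.card (Subgroup.centralizer ({s} : Set ↥(chevF4.group F))) =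
        Fintype.card F ^ 16 * ((Fintype.card F ^ 2 - 1) * (Fintype.card F ^ 4 - 1) * (Fintype.card F ^ 6 - 1) * (Fintype.card F ^ 8 - 1)) ∧
      Nat.card (Subgroup.centralizer ({t} : Set ↥(chevF4.group F))) =
        Fintype.card F ^ 10 * ((Fintype.card F ^ 2 - 1) ^ 2 * (Fintype.card F ^ 4 - 1) * (Fintype.card F ^ 6 - 1)) := by
  have h2 : (2 : F) ≠ 0 := Cert.two_ne_zero_of_odd_card hF
  refine ⟨_, _, certF4.orderOf_hMask h2 chkInj (M := sMask) (by decide +kernel) (by decide +kernel),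
    certF4.orderOf_hMask h2 chkInj (M := tMask) (by decide +kernel) (by decide +kernel), ?_,
    certF4.invol_classes hF chkOrth chkInj chkOddOrb, card_s hF, card_t hF⟩
  intro hc
  have e := card_centralizer_eq_of_isConj hc
  rw [card_s hF, card_t hF] at e
  have hq : 2 ≤ Fintype.card F := Fintype.one_lt_card
  refine ne_of_exponents hq (show 10 < 16 by norm_num) ?_ e.symm
  refine Nat.Coprime.mul_right (Nat.Coprime.mul_right (Nat.Coprime.pow_right 2 ?_) ?_) ?_ <;>
    exact coprime_pow_sub_one (by omega) (by norm_num)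

end CfsgLib.Chev.OddInvolF4
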