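import Cfsg.Agent.Lib.Chev.Order
import Cfsg.Agent.Lib.Chev.DiagOrder

/-!
In odd characteristic every involution of a Chevalley group is conjugate to a monomial one.
-/

set_option autoImplicit false

namespace CfsgLib.Chev

open Cfsg.Lie Matrix

namespace Cert

variable {D : ChevalleyDatum} {T : Tab} {C : Tab.Cover} (h : Cert D T C) {F : Type*} [Field F]
include h

/-- The double coset `B n B` determines `n` modulo `H`. -/
lemma cell_eq {b b' n n' : GL D.Idx F} (hb : b ∈ D.borelSubgroup F)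
    (hb' : b' ∈ D.borelSubgroup F) (hn : n ∈ D.monomialSubgroup F)
    (hn' : n' ∈ D.monomialSubgroup F) (e : b * n = n' * b') :
    n⁻¹ * n' ∈ D.diagonalSubgroup F := by
  obtain ⟨P, hPB, hPN, -⟩ := h.exists_bnPair (F := F)
  have hmem : ∀ {x}, x ∈ D.borelSubgroup F → x ∈ D.group F := fun hx => h.borel_le_group hx
  let N₁ : P.N := ⟨⟨n, h.monomial_le_group hn⟩, by rw [hPN, Subgroup.mem_subgroupOf]; exact hn⟩
  let N₂ : P.N := ⟨⟨n', h.monomial_le_group hn'⟩, by rw [hPN, Subgroup.mem_subgroupOf]; exact hn'⟩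
  rw [← h.borel_inf_monomial]
  refine Subgroup.mem_inf.2 ⟨?_, mul_mem (inv_mem hn) hn'⟩
  let g : ↥(D.group F) := ⟨b * n * 1, mul_mem (mul_mem (hmem hb) (h.monomial_le_group hn)) (one_mem _)⟩
  have h1 : g ∈ CfsgLib.BN.cell P (QuotientGroup.mk N₁) :=
    CfsgLib.BN.mem_cell_mk.2 ⟨⟨b, hmem hb⟩, by rw [hPB, Subgroup.mem_subgroupOf]; exact hb,
      1, one_mem _, Subtype.ext rfl⟩
  have h2 : g ∈ CfsgLib.BN.cell P (QuotientGroup.mk N₂) :=
    CfsgLib.BN.mem_cell_mk.2 ⟨1, one_mem _, ⟨b', hmem hb'⟩,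
      by rw [hPB, Subgroup.mem_subgroupOf]; exact hb', Subtype.ext (by
        show b * n * 1 = 1 * n' * b'
        rw [mul_one, one_mul, e])⟩
  have h3 := CfsgLib.BN.mk_eq_mk.1 (CfsgLib.BN.cell_inj h1 h2)
  rwa [hPB, Subgroup.mem_subgroupOf] at h3

/-- Powers in `B` follow the diagonal part. -/
lemma borel_pow {u t : GL D.Idx F} (hu : u ∈ D.posUnipotent F) (ht : t ∈ D.diagonalSubgroup F) :
    ∀ k : ℕ, (u * t) ^ k * (t ^ k)⁻¹ ∈ D.posUnipotent F
  | 0 => by simp
  | k + 1 => by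
    have h1 := borel_pow hu ht k
    have h2 : t ^ k * u * (t ^ k)⁻¹ ∈ D.posUnipotent F :=
      (Subgroup.mem_normalizer_iff.1
        (h.diagonal_le_normalizer_posUnipotent (pow_mem ht k)) u).1 hu
    rw [show (u * t) ^ (k + 1) * (t ^ (k + 1))⁻¹ =
      ((u * t) ^ k * (t ^ k)⁻¹) * (t ^ k * u * (t ^ k)⁻¹) by
        rw [pow_succ, pow_succ]; group]
    exact mul_mem h1 h2

lemma pow_card_sub_one [Fintype F] {t : GL D.Idx F} (ht : t ∈ D.diagonalSubgroup F) :
    t ^ (Fintype.card F - 1) = 1 := by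
  classical
  rw [← h.range_torusHom, MonoidHom.mem_range] at ht
  obtain ⟨c, rfl⟩ := ht
  rw [← map_pow, show c ^ (Fintype.card F - 1) = 1 by
    funext i
    rw [Pi.pow_apply, Pi.one_apply, ← Fintype.card_units]
    exact pow_card_eq_one, map_one]

/-- A `p`-element of `B` lies in `U`. -/
lemma mem_posUnipotent_of_pow [Fintype F] {x : GL D.Idx F} (hx : x ∈ D.borelSubgroup F) {k : ℕ}
    (hk : x ^ (Fintype.card F ^ k) = 1) : x ∈ D.posUnipotent F := by
  obtain ⟨u, hu, t, ht, rfl⟩ := h.mem_borel_iff.1 hx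
  have h1 := h.borel_pow hu ht (Fintype.card F ^ k)
  rw [hk, one_mul] at h1
  have h2 : t ^ (Fintype.card F ^ k) = 1 := by
    have := Subgroup.mem_inf.2 ⟨inv_mem_iff.1 h1, pow_mem ht (Fintype.card F ^ k)⟩
    rwa [h.posUnipotent_inf_diagonal, Subgroup.mem_bot] at this
  have h3 := h.pow_card_sub_one ht
  have hco : Nat.Coprime (Fintype.card F - 1) (Fintype.card F ^ k) := by
    refine Nat.Coprime.pow_right k ?_
    rw [Nat.coprime_self_sub_left Fintype.card_pos]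
    exact Nat.coprime_one_left _
  have h4 : t ^ Nat.gcd (Fintype.card F - 1) (Fintype.card F ^ k) = 1 := pow_gcd_eq_one.2 ⟨h3, h2⟩
  rw [hco.gcd_eq_one, pow_one] at h4
  rwa [h4, mul_one]

/-- Every involution is conjugate to a monomial element. -/
theorem exists_conj_monomial [Fintype F] (hF : Odd (Fintype.card F)) {g : GL D.Idx F}
    (hg : g ∈ D.group F) (hsq : g * g = 1) :
    ∃ x ∈ D.group F, x * g * x⁻¹ ∈ D.monomialSubgroup F := by
  classical
  obtain ⟨b, hb, n, hn, u, hu, rfl⟩ := h.bruhat_exists hg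
  have huU : u ∈ D.posUnipotent F := by
    obtain ⟨π, hπ, -⟩ := h.exists_perm hn
    rw [h.cellUnipotent_eq fun r hr => ⟨(hπ r hr).1, (hπ r hr).2.1⟩] at hu
    exact h.gen_pos_le (fun r hr => hr.1) hu
  have huB : u ∈ D.borelSubgroup F := Subgroup.mem_sup_left huU
  set b1 := u * b with hb1d
  have hb1 : b1 ∈ D.borelSubgroup F := mul_mem huB hb
  have e1 : u * (b * n * u) * u⁻¹ = b1 * n := by rw [hb1d]; group
  have hsq1 : b1 * n * (b1 * n) = 1 := by
    rw [← e1, show u * (b * n * u) * u⁻¹ * (u * (b * n * u) * u⁻¹) =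
      u * ((b * n * u) * (b * n * u)) * u⁻¹ by group, hsq]; group
  have hn2 : n⁻¹ * n⁻¹ ∈ D.diagonalSubgroup F := by
    refine h.cell_eq hb1 (inv_mem hb1) hn (inv_mem hn) ?_
    rw [← _root_.mul_inv_rev]
    exact eq_inv_of_mul_eq_one_left hsq1
  have hnb : n * b1 * n⁻¹ ∈ D.borelSubgroup F := by
    have e2 : n * b1 * n = b1⁻¹ := by
      refine (inv_eq_of_mul_eq_one_right ?_).symm
      rw [← hsq1]; group
    rw [show n * b1 * n⁻¹ = n * b1 * n * (n⁻¹ * n⁻¹) by group, e2]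
    exact mul_mem (inv_mem hb1) (Subgroup.mem_sup_right hn2)
  obtain ⟨v, hv, t, ht, hb1e⟩ := h.mem_borel_iff.1 hb1
  have hnt : n * t * n⁻¹ ∈ D.diagonalSubgroup F :=
    (Subgroup.mem_normalizer_iff.1 (h.monomial_le_normalizer_diagonal hn) t).1 ht
  have hQ : ∀ x ∈ D.posUnipotent F, x ^ (Fintype.card F ^ T.half) = 1 := by
    intro x hx
    have := Subgroup.orderOf_dvd_natCard _ hx
    rw [h.card_posUnipotent] at this
    exact orderOf_dvd_iff_pow_eq_one.1 this
  have hnv : n * v * n⁻¹ ∈ D.posUnipotent F := by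
    refine h.mem_posUnipotent_of_pow ?_ (k := T.half) (by rw [conj_pow, hQ v hv]; group)
    rw [show n * v * n⁻¹ = (n * b1 * n⁻¹) * (n * t * n⁻¹)⁻¹ by rw [hb1e]; group]
    exact mul_mem hnb (inv_mem (Subgroup.mem_sup_right hnt))
  set m := t * n with hmd
  have hm : m ∈ D.monomialSubgroup F := mul_mem (diagonal_le_monomial ht) hn
  have hmv : m * v * m⁻¹ ∈ D.posUnipotent F := by
    rw [show m * v * m⁻¹ = t * (n * v * n⁻¹) * t⁻¹ by rw [hmd]; group]
    exact (Subgroup.mem_normalizer_iff.1 (h.diagonal_le_normalizer_posUnipotent ht) _).1 hnv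
  have e3 : v * (m * v * m⁻¹) * (m * m) = 1 := by
    rw [← hsq1, hb1e, hmd]; group
  have hmm : m * m = 1 := by
    have h1 : m * m = (v * (m * v * m⁻¹))⁻¹ :=
      eq_inv_of_mul_eq_one_right e3
    have h2 := Subgroup.mem_inf.2 ⟨(h1 ▸ inv_mem (mul_mem hv hmv) : m * m ∈ D.posUnipotent F),
      mul_mem hm hm⟩
    rwa [h.posUnipotent_inf_monomial, Subgroup.mem_bot] at h2
  have hmv' : m * v * m⁻¹ = v⁻¹ := by
    rw [hmm, mul_one] at e3
    exact eq_inv_of_mul_eq_one_right e3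
  obtain ⟨j, hj⟩ : Odd (Fintype.card F ^ T.half) := hF.pow
  set s := v ^ (j + 1) with hsd
  have hss : s * s = v := by
    rw [hsd, ← pow_add, show j + 1 + (j + 1) = Fintype.card F ^ T.half + 1 by omega, pow_succ,
      hQ v hv, one_mul]
  have hms : m * s = s⁻¹ * m := by
    rw [← mul_inv_eq_iff_eq_mul, hsd, ← conj_pow, hmv', inv_pow]
  refine ⟨s⁻¹ * u, mul_mem (inv_mem (h.posUnipotent_le_group (pow_mem hv _)))
    (h.posUnipotent_le_group huU), ?_⟩
  rw [show s⁻¹ * u * (b * n * u) * (s⁻¹ * u)⁻¹ = s⁻¹ * (u * (b * n * u) * u⁻¹) * s by group, e1,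
    hb1e, show s⁻¹ * (v * t * n) * s = s⁻¹ * v * (m * s) by rw [hmd]; group, hms, ← hss,
    show s⁻¹ * (s * s) * (s⁻¹ * m) = m by group]
  exact hm

end Cert

end CfsgLib.Chev
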